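import Cfsg.Agent.Lib.Fusion.Abelian
import Cfsg.Agent.Lib.Invol.Basic
import Cfsg.Agent.Lib.Coprime.Fitting
import Cfsg.Agent.Lib.Coprime.Solvable

/-!
Finite groups all of whose Sylow subgroups are abelian, factorised as a 2-group times a subgroup
of odd order: basic facts.
-/

set_option autoImplicit false
set_option linter.style.haveILetI false
set_option linter.unusedSectionVars false

namespace CfsgLib.AGroupHT

open Subgroup

universe u

/-- Every subgroup of prime power order is abelian. -/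
def Ab (G : Type u) [Group G] : Prop :=
  ∀ (p : ℕ) (Q : Subgroup G), p.Prime → IsPGroup p Q → ∀ x ∈ Q, ∀ y ∈ Q, Commute x y

/-- `G = TH` with `T` a 2-group and `H` of odd order. -/
structure HT (G : Type u) [Group G] (H T : Subgroup G) : Prop where
  two : IsPGroup 2 T
  odd : Odd (Nat.card H)
  cover : ∀ g : G, ∃ t ∈ T, ∃ h ∈ H, g = t * h

variable {G : Type u} [Group G] [Finite G]

theorem ab_of_sylow
    (hA : ∀ (p : ℕ) [Fact p.Prime] (P : Sylow p G), IsMulCommutative (P : Subgroup G)) : Ab G := by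
  intro p Q hp hQ x hx y hy
  haveI := Fact.mk hp
  obtain ⟨P, hP⟩ := hQ.exists_le_sylow
  haveI := hA p P
  exact congrArg Subtype.val (mul_comm' (⟨x, hP hx⟩ : (P : Subgroup G)) ⟨y, hP hy⟩)

theorem Ab.isMulCommutative (hA : Ab G) {p : ℕ} (hp : p.Prime) {Q : Subgroup G}
    (hQ : IsPGroup p Q) : IsMulCommutative Q :=
  ⟨⟨fun a b => Subtype.ext (hA p Q hp hQ a a.2 b b.2)⟩⟩

theorem Ab.subgroup (hA : Ab G) (K : Subgroup G) : Ab K := by
  intro p Q hp hQ x hx y hy
  exact Subtype.ext (hA p (Q.map K.subtype) hp (hQ.map _) x (mem_map_of_mem _ hx) y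
    (mem_map_of_mem _ hy))

theorem Ab.quotient (hA : Ab G) (N : Subgroup G) [N.Normal] : Ab (G ⧸ N) := by
  intro p Q hp hQ x hx y hy
  haveI := Fact.mk hp
  let K : Subgroup G := Q.comap (QuotientGroup.mk' N)
  let f : K →* Q := (QuotientGroup.mk' N).subgroupComap Q
  have hf : Function.Surjective f := by
    intro q
    obtain ⟨g, hg⟩ := QuotientGroup.mk'_surjective N (q : G ⧸ N)
    exact ⟨⟨g, by show QuotientGroup.mk' N g ∈ Q; rw [hg]; exact q.2⟩, Subtype.ext hg⟩
  obtain ⟨P⟩ : Nonempty (Sylow p K) := inferInstance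
  have hidx : ((P : Subgroup K).map f).index ∣ (P : Subgroup K).index :=
    Subgroup.index_map_dvd _ hf
  have htop : (P : Subgroup K).map f = ⊤ := by
    rw [← Subgroup.index_eq_one]
    obtain ⟨k, hk⟩ := IsPGroup.index hQ ((P : Subgroup K).map f)
    rcases Nat.eq_zero_or_pos k with hk0 | hk0
    · rw [hk, hk0, pow_zero]
    · exact absurd ((dvd_pow_self p hk0.ne').trans (hk ▸ hidx)) P.not_dvd_index
  obtain ⟨a, ha, hax⟩ : (⟨x, hx⟩ : Q) ∈ (P : Subgroup K).map f := htop ▸ mem_top _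
  obtain ⟨b, hb, hby⟩ : (⟨y, hy⟩ : Q) ∈ (P : Subgroup K).map f := htop ▸ mem_top _
  have h := congrArg f ((hA.subgroup K) p P hp P.2 a ha b hb).eq
  rw [map_mul, map_mul, hax, hby] at h
  exact congrArg Subtype.val h

theorem eq_one_of_two_of_odd {x : G} {T H : Subgroup G} (hT : IsPGroup 2 T)
    (hH : Odd (Nat.card H)) (hxT : x ∈ T) (hxH : x ∈ H) : x = 1 := by
  obtain ⟨k, hk⟩ := hT ⟨x, hxT⟩
  have hk' : x ^ 2 ^ k = 1 := congrArg Subtype.val hk
  exact CfsgLib.Invol.eq_one_of_odd_of_pow_two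
    (hH.of_dvd_nat (Subgroup.orderOf_dvd_natCard H hxH)) hk'

namespace HT

variable {H T : Subgroup G}

theorem disj (h : HT G H T) {x : G} (hxT : x ∈ T) (hxH : x ∈ H) : x = 1 :=
  eq_one_of_two_of_odd h.two h.odd hxT hxH

theorem disj_eq (h : HT G H T) {s t : G} (hs : s ∈ T) (ht : t ∈ T) (hst : s⁻¹ * t ∈ H) : s = t :=
  inv_mul_eq_one.1 (h.disj (mul_mem (inv_mem hs) ht) hst)

/-- The `T`-coordinate of the coset `gH`. -/
noncomputable def τ (h : HT G H T) (g : G) : G := (h.cover g).choose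

theorem τ_mem (h : HT G H T) (g : G) : h.τ g ∈ T := (h.cover g).choose_spec.1

theorem τ_spec (h : HT G H T) (g : G) : (h.τ g)⁻¹ * g ∈ H := by
  obtain ⟨a, ha, e⟩ := (h.cover g).choose_spec.2
  have e' : (h.τ g)⁻¹ * g = a := inv_mul_eq_iff_eq_mul.2 e
  exact e'.symm ▸ ha

theorem τ_eq (h : HT G H T) {g t : G} (ht : t ∈ T) (hg : t⁻¹ * g ∈ H) : h.τ g = t := by
  refine h.disj_eq (h.τ_mem g) ht ?_
  have := mul_mem (h.τ_spec g) (inv_mem hg)
  rwa [show (h.τ g)⁻¹ * g * (t⁻¹ * g)⁻¹ = (h.τ g)⁻¹ * t by group] at this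

theorem cover' (h : HT G H T) (g : G) : ∃ a ∈ H, ∃ t ∈ T, g = a * t := by
  obtain ⟨t, ht, a, ha, e⟩ := h.cover g⁻¹
  exact ⟨a⁻¹, inv_mem ha, t⁻¹, inv_mem ht, by rw [← mul_inv_rev, ← e, inv_inv]⟩

theorem card_mul (h : HT G H T) : Nat.card T * Nat.card H = Nat.card G := by
  rw [← Nat.card_prod]
  refine Nat.card_congr (Equiv.ofBijective (fun x : T × H => (x.1 : G) * x.2) ⟨?_, ?_⟩)
  · rintro ⟨t, a⟩ ⟨s, b⟩ hab
    have e : (t : G) * a = s * b := hab
    have hst : (t : G) = s := h.disj_eq t.2 s.2 (by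
      have : (t : G)⁻¹ * s = a * (b : G)⁻¹ := by
        rw [inv_mul_eq_iff_eq_mul, ← mul_assoc, e, mul_inv_cancel_right]
      rw [this]
      exact mul_mem a.2 (inv_mem b.2))
    rw [hst, mul_left_cancel_iff] at e
    exact Prod.ext (Subtype.ext hst) (Subtype.ext e)
  · intro g
    obtain ⟨t, ht, a, ha, e⟩ := h.cover g
    exact ⟨(⟨t, ht⟩, ⟨a, ha⟩), e.symm⟩

theorem exists_sylow (h : HT G H T) : ∃ P : Sylow 2 G, (P : Subgroup G) = T := by
  haveI := Fact.mk Nat.prime_two
  have hidx : T.index = Nat.card H := by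
    have h1 := T.card_mul_index
    rw [← h.card_mul] at h1
    exact Nat.eq_of_mul_eq_mul_left Nat.card_pos h1
  have hnd : ¬ 2 ∣ T.index := by
    rw [hidx]
    exact fun hd => Nat.not_even_iff_odd.2 h.odd (even_iff_two_dvd.2 hd)
  exact ⟨h.two.toSylow hnd, rfl⟩

theorem subgroup (h : HT G H T) {K : Subgroup G} (hTK : T ≤ K) :
    HT K (H.subgroupOf K) (T.subgroupOf K) where
  two := h.two.comap_of_injective _ K.subtype_injective
  odd := h.odd.of_dvd_nat (Subgroup.card_comap_dvd_of_injective _ _ K.subtype_injective)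
  cover g := by
    obtain ⟨t, ht, a, ha, e⟩ := h.cover g
    have haK : a ∈ K := by
      have : a = t⁻¹ * g := by rw [e, inv_mul_cancel_left]
      rw [this]
      exact mul_mem (inv_mem (hTK ht)) g.2
    exact ⟨⟨t, hTK ht⟩, by simpa [mem_subgroupOf] using ht, ⟨a, haK⟩,
      by simpa [mem_subgroupOf] using ha, Subtype.ext e⟩

theorem quotient (h : HT G H T) (N : Subgroup G) [N.Normal] :
    HT (G ⧸ N) (H.map (QuotientGroup.mk' N)) (T.map (QuotientGroup.mk' N)) where
  two := h.two.map _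
  odd := h.odd.of_dvd_nat (Subgroup.card_map_dvd H _)
  cover g := by
    obtain ⟨g, rfl⟩ := QuotientGroup.mk'_surjective N g
    obtain ⟨t, ht, a, ha, e⟩ := h.cover g
    exact ⟨_, mem_map_of_mem _ ht, _, mem_map_of_mem _ ha, by rw [e, map_mul]⟩

end HT

/-- An involutive map and the parity of its fixed points. -/
theorem card_invol_modEq {α : Type*} [Finite α] {f : α → α} (hf : Function.Involutive f) :
    Nat.card α ≡ Nat.card {a // f a = a} [MOD 2] := by
  classical
  haveI := Fintype.ofFinite α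
  let σ : Equiv.Perm α := hf.toPerm f
  have h2 : σ ^ 2 = 1 := by
    ext a
    simp [σ, pow_two, hf a]
  have hs := Equiv.Perm.two_dvd_card_support h2
  have hsplit := Finset.card_filter_add_card_filter_not (s := (Finset.univ : Finset α))
    (fun a => f a = a)
  have e1 : (Finset.univ.filter fun a => ¬ f a = a) = σ.support := by
    ext a; simp [σ]
  rw [e1] at hsplit
  rw [Nat.card_eq_fintype_card, Nat.card_eq_fintype_card, Fintype.card_subtype, ← Finset.card_univ]
  obtain ⟨m, hm⟩ := hs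
  show _ % 2 = _ % 2
  omega

/-- An inverted element of odd order that is not trivial is not centralised. -/
theorem eq_one_of_inv_eq {x : G} (hodd : Odd (orderOf x)) (h : x⁻¹ = x) : x = 1 := by
  have h2 : x ^ 2 ^ 1 = 1 := by
    rw [pow_one, pow_two]
    nth_rewrite 1 [← h]
    exact inv_mul_cancel x
  exact CfsgLib.Invol.eq_one_of_odd_of_pow_two hodd h2

end CfsgLib.AGroupHT

namespace CfsgLib.AGroupHT

open Subgroup

/-- An element conjugating a subgroup of a finite group into itself normalises it. -/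
theorem mem_normalizer_of_conj_le {G : Type*} [Group G] [Finite G] {K : Subgroup G} {g : G}
    (h : ∀ x ∈ K, g * x * g⁻¹ ∈ K) : g ∈ normalizer (K : Set G) := by
  have hle : K.map (MulAut.conj g).toMonoidHom ≤ K := by
    rintro _ ⟨x, hx, rfl⟩
    exact h x hx
  have heq := Subgroup.eq_of_le_of_card_ge hle
    (card_map_of_injective (MulAut.conj g).injective).ge
  rw [Subgroup.mem_normalizer_iff]
  intro x
  refine ⟨fun hx => h x hx, fun hx => ?_⟩
  obtain ⟨y, hy, e⟩ := heq.symm ▸ hx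
  have : y = x := (MulAut.conj g).injective e
  exact this ▸ hy

end CfsgLib.AGroupHT
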