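import Cfsg.Agent.Lib.PGroup.AGroupHT.Basic
import Cfsg.Agent.Lib.FT.NoMinSimple

/-!
A minimal counterexample `G = TH`: the Sylow 2-subgroup is a trivial intersection set containing
the centralisers of its involutions in its normaliser, and `H` is maximal.
-/

set_option autoImplicit false
set_option linter.style.haveILetI false
set_option linter.unusedSectionVars false

namespace CfsgLib.AGroupHT

open Subgroup

universe u

/-- A minimal counterexample. -/
structure Conf (G : Type u) [Group G] (H T : Subgroup G) : Prop where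
  ab : Ab G
  ht : HT G H T
  nsol : ¬ Group.IsSolvable G
  simple : ∀ N : Subgroup G, N.Normal → N ≠ ⊥ → N = ⊤
  small : ∀ K : Subgroup G, K ≠ ⊤ → (∃ H' T' : Subgroup K, HT K H' T') → Group.IsSolvable K

namespace Conf

variable {G : Type u} [Group G] [Finite G] {H T : Subgroup G}

theorem T_comm (c : Conf G H T) {a b : G} (ha : a ∈ T) (hb : b ∈ T) : Commute a b :=
  c.ab 2 T Nat.prime_two c.ht.two a ha b hb

theorem eq_one_of_conj_mem (c : Conf G H T) {K : Subgroup G} (hK : K ≠ ⊤) {x : G}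
    (h : ∀ g : G, g * x * g⁻¹ ∈ K) : x = 1 := by
  have hx : x ∈ K.normalCore := fun b => h b
  by_contra hx1
  have hne : K.normalCore ≠ ⊥ := fun hb => hx1 (mem_bot.1 (hb ▸ hx))
  exact hK (top_le_iff.1 (c.simple _ inferInstance hne ▸ normalCore_le K))

theorem center_eq_bot (c : Conf G H T) : center G = ⊥ := by
  by_contra h
  have h1 := c.simple _ inferInstance h
  exact c.nsol (Group.isSolvable_of_comm fun a b =>
    ((mem_center_iff.1 (h1 ▸ mem_top b : b ∈ center G)) a))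

theorem H_ne_top (c : Conf G H T) : H ≠ ⊤ := by
  intro h
  have : Odd (Nat.card G) := by
    have := c.ht.odd
    rwa [h, Subgroup.card_top] at this
  exact c.nsol (CfsgLib.FT.isSolvable_of_odd G this)

theorem T_ne_top (c : Conf G H T) : T ≠ ⊤ := by
  intro h
  haveI : Fact (Nat.Prime 2) := ⟨Nat.prime_two⟩
  have h2 : IsPGroup 2 G := by
    intro g
    obtain ⟨k, hk⟩ := c.ht.two ⟨g, h ▸ mem_top g⟩
    exact ⟨k, congrArg Subtype.val hk⟩
  haveI := h2.isNilpotent
  exact c.nsol inferInstance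

theorem exists_invol (c : Conf G H T) : ∃ z ∈ T, orderOf z = 2 := by
  haveI : Fact (Nat.Prime 2) := ⟨Nat.prime_two⟩
  have hT1 : T ≠ ⊥ := by
    intro h
    apply c.H_ne_top
    rw [eq_top_iff]
    intro g _
    obtain ⟨t, ht, a, ha, e⟩ := c.ht.cover g
    rw [h, mem_bot] at ht
    rwa [e, ht, one_mul]
  haveI : Nontrivial T := (Subgroup.nontrivial_iff_ne_bot T).2 hT1
  obtain ⟨k, hk⟩ := c.ht.two.exists_card_eq
  refine CfsgLib.Invol.exists_invol_mem ?_
  rw [hk]
  rcases k with - | k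
  · rw [pow_zero] at hk
    exact absurd (Subgroup.card_eq_one.1 hk) hT1
  · exact even_iff_two_dvd.2 (dvd_pow_self 2 (Nat.succ_ne_zero k))

/-- A subgroup above `H` is `H` or everything. -/
theorem maximal (c : Conf G H T) {K : Subgroup G} (hHK : H ≤ K) (hK : K ≠ ⊤) : K ≤ H := by
  intro g hg
  obtain ⟨t, ht, a, ha, e⟩ := c.ht.cover g
  have htK : t ∈ K := by
    have : t = g * a⁻¹ := by rw [e, mul_inv_cancel_right]
    rw [this]
    exact mul_mem hg (inv_mem (hHK ha))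
  have ht1 : t = 1 := by
    refine c.eq_one_of_conj_mem hK fun b => ?_
    obtain ⟨b1, hb1, t1, ht1, eb⟩ := c.ht.cover' b
    have : b * t * b⁻¹ = b1 * t * b1⁻¹ := by
      rw [eb, mul_inv_rev, show b1 * t1 * t * (t1⁻¹ * b1⁻¹) = b1 * (t1 * t * t1⁻¹) * b1⁻¹ by group,
        (c.T_comm ht1 ht).eq, mul_inv_cancel_right]
    rw [this]
    exact mul_mem (mul_mem (hHK hb1) htK) (inv_mem (hHK hb1))
  rwa [e, ht1, one_mul]

/-- A subgroup of `H` normalised by `T` is trivial. -/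
theorem eq_one_of_T_conj (c : Conf G H T) {X : Subgroup G} (hXH : X ≤ H)
    (hT : ∀ t ∈ T, ∀ x ∈ X, t * x * t⁻¹ ∈ X) {x : G} (hx : x ∈ X) : x = 1 := by
  refine c.eq_one_of_conj_mem c.H_ne_top fun g => ?_
  obtain ⟨a, ha, t, ht, e⟩ := c.ht.cover' g
  rw [e, mul_inv_rev, show a * t * x * (t⁻¹ * a⁻¹) = a * (t * x * t⁻¹) * a⁻¹ by group]
  exact mul_mem (mul_mem ha (hXH (hT t ht x hx))) (inv_mem ha)

/-- A normal subgroup of odd order of a subgroup `K` with `K = (K ∩ T)(K ∩ H)` lies in `H`. -/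
theorem odd_normal_le (c : Conf G H T) {K N : Subgroup G} (hNK : N ≤ K)
    (hn : ∀ k ∈ K, ∀ x ∈ N, k * x * k⁻¹ ∈ N) (hodd : Odd (Nat.card N))
    (hcov : ∀ k ∈ K, ∃ t ∈ T, t ∈ K ∧ ∃ a ∈ H, a ∈ K ∧ k = t * a) : N ≤ H := by
  classical
  set A : Subgroup G := H ⊓ K with hA
  have hAn : A ≤ normalizer (N : Set G) := by
    intro a ha
    rw [Subgroup.mem_normalizer_iff]
    intro x
    refine ⟨fun hx => hn a ha.2 x hx, fun hx => ?_⟩
    have h3 := hn a⁻¹ (inv_mem ha.2) _ hx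
    simpa [mul_assoc] using h3
  set B : Subgroup G := A ⊔ N with hB
  have hBodd : Odd (Nat.card B) :=
    (c.ht.odd.of_dvd_nat (Subgroup.card_dvd_of_le inf_le_left)).mul hodd |>.of_dvd_nat
      (CfsgLib.Coprime.card_sup_dvd_of_le_normalizer hAn)
  intro x hx
  obtain ⟨t, ht, htK, a, ha, haK, e⟩ := hcov x (hNK hx)
  have htB : t ∈ B := by
    have : t = x * a⁻¹ := by rw [e, mul_inv_cancel_right]
    rw [this]
    exact mul_mem ((le_sup_right : N ≤ B) hx)
      (inv_mem ((le_sup_left : A ≤ B) (Subgroup.mem_inf.2 ⟨ha, haK⟩)))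
  rw [e, eq_one_of_two_of_odd c.ht.two hBodd ht htB, one_mul]
  exact ha

/-- The centraliser of an involution of `T` normalises `T`. -/
theorem cent_le (c : Conf G H T) {z : G} (hz : z ∈ T) (hz2 : orderOf z = 2) :
    centralizer ({z} : Set G) ≤ normalizer (T : Set G) := by
  haveI : Fact (Nat.Prime 2) := ⟨Nat.prime_two⟩
  set K : Subgroup G := centralizer ({z} : Set G) with hK
  have hTK : T ≤ K := fun t ht => mem_centralizer_singleton_iff.2 (c.T_comm ht hz).eq
  have hKtop : K ≠ ⊤ := by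
    intro h
    have hzc : z ∈ center G := mem_center_iff.2 fun g =>
      (mem_centralizer_singleton_iff.1 (h ▸ mem_top g : g ∈ K))
    rw [c.center_eq_bot, mem_bot] at hzc
    exact CfsgLib.Invol.invol_ne_one hz2 hzc
  haveI hsol := c.small K hKtop ⟨_, _, c.ht.subgroup hTK⟩
  -- the odd core is trivial
  have hcore : Cfsg.pPrimeCore 2 K = ⊥ := by
    haveI := CfsgLib.Coprime.pPrimeCore_characteristic (G := K) 2
    set N : Subgroup G := (Cfsg.pPrimeCore 2 K).map K.subtype with hN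
    have hn : ∀ k ∈ K, ∀ x ∈ N, k * x * k⁻¹ ∈ N := by
      rintro k hk x ⟨y, hy, rfl⟩
      exact ⟨⟨k, hk⟩ * y * ⟨k, hk⟩⁻¹,
        (inferInstance : (Cfsg.pPrimeCore 2 K).Normal).conj_mem y hy _, rfl⟩
    have hodd : Odd (Nat.card N) := by
      rw [hN, card_map_of_injective K.subtype_injective]
      exact Nat.coprime_two_right.1 (CfsgLib.Coprime.pPrimeCore_coprime Nat.prime_two)
    have hNH : N ≤ H := c.odd_normal_le (K := K) (map_subtype_le _) hn hodd (fun k hk => by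
      obtain ⟨t, ht, a, ha, e⟩ := c.ht.cover k
      refine ⟨t, ht, hTK ht, a, ha, ?_, e⟩
      have : a = t⁻¹ * k := by rw [e, inv_mul_cancel_left]
      rw [this]
      exact mul_mem (inv_mem (hTK ht)) hk)
    rw [eq_bot_iff]
    intro x hx
    exact mem_bot.2 (Subtype.ext (c.eq_one_of_T_conj hNH (fun t ht => hn t (hTK ht))
      (mem_map_of_mem K.subtype hx)))
  have hcpl := CfsgLib.Coprime.centralizer_pCore_le (G := K) (p := 2) hcore
  set T' : Subgroup K := T.subgroupOf K with hT'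
  have hP : IsPGroup 2 T' := (c.ht.subgroup hTK).two
  have hTsup : Cfsg.pCore 2 K ≤ T' := by
    obtain ⟨P, hP'⟩ := (c.ht.subgroup hTK).exists_sylow
    exact (CfsgLib.Coprime.pCore_le_sylow P).trans hP'.le
  have heq : T' = Cfsg.pCore 2 K := by
    refine le_antisymm (fun t ht => hcpl ?_) hTsup
    rw [mem_centralizer_iff]
    intro s hs
    exact Subtype.ext (c.T_comm (mem_subgroupOf.1 (hTsup hs)) (mem_subgroupOf.1 ht)).eq
  haveI : T'.Normal := heq ▸ CfsgLib.Coprime.pCore_normal' 2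
  intro k hk
  rw [Subgroup.mem_normalizer_iff]
  intro x
  refine ⟨fun hx => ?_, fun hx => ?_⟩
  · simpa [T', mem_subgroupOf] using
      (inferInstance : T'.Normal).conj_mem ⟨x, hTK hx⟩ (by simpa [T', mem_subgroupOf] using hx)
        ⟨k, hk⟩
  · have hxK : x ∈ K := by
      have := mul_mem (mul_mem (inv_mem hk) (hTK hx)) hk
      rwa [show k⁻¹ * (k * x * k⁻¹) * k = x by group] at this
    have h1 := (inferInstance : T'.Normal).conj_mem ⟨k * x * k⁻¹, hTK hx⟩
      (by simpa [T', mem_subgroupOf] using hx) ⟨k⁻¹, inv_mem hk⟩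
    simpa [T', mem_subgroupOf, mul_assoc] using h1

/-- A 2-subgroup normalising `T` lies in `T`. -/
theorem two_le_of_normalizes (c : Conf G H T) {P : Subgroup G} (hP : IsPGroup 2 P)
    (hN : P ≤ normalizer (T : Set G)) : P ≤ T := by
  haveI : Fact (Nat.Prime 2) := ⟨Nat.prime_two⟩
  have h2 : IsPGroup 2 (P ⊔ T : Subgroup G) := hP.to_sup_of_normal_right' c.ht.two hN
  obtain ⟨S, hS⟩ := c.ht.exists_sylow
  have := S.3 h2 (hS ▸ le_sup_right)
  rw [hS] at this
  exact le_sup_left.trans this.le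

theorem mem_T_of_two (c : Conf G H T) {x : G} {k : ℕ} (hx : x ^ 2 ^ k = 1)
    (hN : x ∈ normalizer (T : Set G)) : x ∈ T := by
  haveI : Fact (Nat.Prime 2) := ⟨Nat.prime_two⟩
  refine c.two_le_of_normalizes (P := zpowers x) ?_ (by rwa [zpowers_le]) (mem_zpowers x)
  intro y
  obtain ⟨y, hy⟩ := y
  obtain ⟨i, rfl⟩ := mem_zpowers_iff.1 hy
  refine ⟨k, Subtype.ext ?_⟩
  show (x ^ i) ^ 2 ^ k = 1
  rw [← zpow_natCast, ← zpow_mul, mul_comm, zpow_mul, zpow_natCast, hx, one_zpow]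

/-- The Sylow 2-subgroups are trivial intersection sets. -/
theorem ti (c : Conf G H T) {g x : G} (hx : x ∈ T) (hxg : g * x * g⁻¹ ∈ T) (hx1 : x ≠ 1) :
    g ∈ normalizer (T : Set G) := by
  haveI : Fact (Nat.Prime 2) := ⟨Nat.prime_two⟩
  -- replace `x` by an involution
  obtain ⟨k, hk⟩ := c.ht.two ⟨x, hx⟩
  have hk' : x ^ 2 ^ k = 1 := congrArg Subtype.val hk
  have heven : Even (orderOf x) := by
    by_contra h
    exact hx1 (CfsgLib.Invol.eq_one_of_odd_of_pow_two (Nat.not_even_iff_odd.1 h) hk')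
  set z := x ^ (orderOf x / 2) with hz
  have hz2 : orderOf z = 2 := CfsgLib.Invol.orderOf_pow_half heven
  have hzT : z ∈ T := pow_mem hx _
  have hzg : g * z * g⁻¹ ∈ T := by
    rw [hz, ← conj_pow]
    exact pow_mem hxg _
  set S : Subgroup G := T.map (MulAut.conj g⁻¹).toMonoidHom with hS
  have hSc : S ≤ centralizer ({z} : Set G) := by
    rintro _ ⟨s, hs, rfl⟩
    rw [mem_centralizer_singleton_iff]
    show g⁻¹ * s * g⁻¹⁻¹ * z = z * (g⁻¹ * s * g⁻¹⁻¹)
    have e := (c.T_comm hs hzg).eq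
    calc g⁻¹ * s * g⁻¹⁻¹ * z = g⁻¹ * (s * (g * z * g⁻¹)) * g := by group
      _ = g⁻¹ * (g * z * g⁻¹ * s) * g := by rw [e]
      _ = z * (g⁻¹ * s * g⁻¹⁻¹) := by group
  have hST : S ≤ T := c.two_le_of_normalizes (c.ht.two.map _) (hSc.trans (c.cent_le hzT hz2))
  have hcard : Nat.card S = Nat.card T :=
    card_map_of_injective (MulAut.conj g⁻¹).injective
  have hST' : S = T := Subgroup.eq_of_le_of_card_ge hST hcard.ge
  rw [Subgroup.mem_normalizer_iff]
  intro y
  constructor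
  · intro hy
    obtain ⟨s, hs, e⟩ := hST'.symm ▸ hy
    rw [← e]
    show g * (g⁻¹ * s * g⁻¹⁻¹) * g⁻¹ ∈ T
    rwa [show g * (g⁻¹ * s * g⁻¹⁻¹) * g⁻¹ = s by group]
  · intro hy
    rw [← hST']
    exact ⟨_, hy, show g⁻¹ * (g * y * g⁻¹) * g⁻¹⁻¹ = y by group⟩

theorem exists_invol_not_mem (c : Conf G H T) : ∃ y : G, orderOf y = 2 ∧ y ∉ T := by
  by_contra h
  push Not at h
  obtain ⟨z, hzT, hz2⟩ := c.exists_invol
  exact CfsgLib.Invol.invol_ne_one hz2
    (c.eq_one_of_conj_mem c.T_ne_top fun g => h _ (CfsgLib.Invol.invol_conj hz2 g))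

/-- All involutions of `T` are conjugate under `N(T) ∩ H`. -/
theorem invol_conj_T (c : Conf G H T) {z₁ z₂ : G} (h1 : z₁ ∈ T) (o1 : orderOf z₁ = 2)
    (h2 : z₂ ∈ T) (o2 : orderOf z₂ = 2) :
    ∃ n ∈ H, n ∈ normalizer (T : Set G) ∧ n * z₁ * n⁻¹ = z₂ := by
  haveI : Fact (Nat.Prime 2) := ⟨Nat.prime_two⟩
  obtain ⟨y, hy, hyT⟩ := c.exists_invol_not_mem
  have key : ∀ z : G, z ∈ T → orderOf z = 2 → ∃ d : G, d * z * d⁻¹ = y := by
    intro z hz oz
    rcases Nat.even_or_odd (orderOf (z * y)) with he | ho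
    · exfalso
      set w := (z * y) ^ (orderOf (z * y) / 2) with hw
      have ow : orderOf w = 2 := CfsgLib.Invol.orderOf_pow_half he
      have hinv1 : z * (z * y) * z⁻¹ = (z * y)⁻¹ := by
        rw [mul_inv_rev, CfsgLib.Invol.invol_inv oz, CfsgLib.Invol.invol_inv hy, ← mul_assoc,
          CfsgLib.Invol.invol_mul_self oz, one_mul]
      have hinv2 : y * (z * y) * y⁻¹ = (z * y)⁻¹ := by
        rw [mul_inv_rev, CfsgLib.Invol.invol_inv oz, CfsgLib.Invol.invol_inv hy]
        calc y * (z * y) * y = y * z * (y * y) := by group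
          _ = y * z := by rw [CfsgLib.Invol.invol_mul_self hy, mul_one]
      have c1 : Commute w z := CfsgLib.Invol.commute_pow_half hinv1 he
      have c2 : Commute w y := CfsgLib.Invol.commute_pow_half hinv2 he
      have hwT : w ∈ T := by
        refine c.mem_T_of_two (k := 1) ?_ (c.cent_le hz oz (mem_centralizer_singleton_iff.2 c1.eq))
        rw [pow_one, pow_two]
        exact CfsgLib.Invol.invol_mul_self ow
      refine hyT (c.mem_T_of_two (k := 1) ?_
        (c.cent_le hwT ow (mem_centralizer_singleton_iff.2 c2.symm.eq)))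
      rw [pow_one, pow_two]
      exact CfsgLib.Invol.invol_mul_self hy
    · obtain ⟨d, -, hd⟩ := CfsgLib.Invol.exists_conj_eq_of_odd oz hy ho
      exact ⟨d, hd⟩
  obtain ⟨d1, hd1⟩ := key z₁ h1 o1
  obtain ⟨d2, hd2⟩ := key z₂ h2 o2
  set g := d2⁻¹ * d1 with hg
  have hgz : g * z₁ * g⁻¹ = z₂ := by
    rw [hg, mul_inv_rev, inv_inv, show d2⁻¹ * d1 * z₁ * (d1⁻¹ * d2) = d2⁻¹ * (d1 * z₁ * d1⁻¹) * d2
      by group, hd1, ← hd2]
    group
  have hgN := c.ti h1 (hgz.symm ▸ h2) (CfsgLib.Invol.invol_ne_one o1)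
  obtain ⟨t, ht, a, ha, e⟩ := c.ht.cover g
  have haN : a ∈ normalizer (T : Set G) := by
    have : a = t⁻¹ * g := by rw [e, inv_mul_cancel_left]
    rw [this]
    exact mul_mem (inv_mem (le_normalizer ht)) hgN
  refine ⟨a, ha, haN, ?_⟩
  have haz : a * z₁ * a⁻¹ ∈ T := (Subgroup.mem_normalizer_iff.1 haN _).1 h1
  rw [← hgz, e, mul_inv_rev, show t * a * z₁ * (a⁻¹ * t⁻¹) = t * (a * z₁ * a⁻¹) * t⁻¹ by group,
    (c.T_comm ht haz).eq, mul_inv_cancel_right]

end Conf

end CfsgLib.AGroupHT
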