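import Cfsg.Agent.Lib.PGroup.AGroupHT.Semireg

/-!
Counting involutions gives more elements inverted in a two-point stabiliser than the orbit of an
element of `V` allows.
-/

set_option autoImplicit false
set_option linter.style.haveILetI false
set_option linter.unusedSectionVars false

namespace CfsgLib.AGroupHT

open Subgroup

universe u

namespace Conf

variable {G : Type u} [Group G] [Finite G] {H T V : Subgroup G} {s : ℕ} {R : Sylow s G}

/-- The involutions moving the base point to the point `gH`. -/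
def Swap (H : Subgroup G) (g : G) : Type u := {u : G // orderOf u = 2 ∧ g⁻¹ * u ∈ H}

instance instFiniteSwap (g : G) : Finite (Swap H g) := Subtype.finite

theorem invol_notMem (c : Conf G H T) {u : G} (hu : orderOf u = 2) : u ∉ H := by
  intro h
  have h2 := c.ht.odd.of_dvd_nat (Subgroup.orderOf_dvd_natCard H h)
  rw [hu] at h2
  exact absurd h2 (by decide)

theorem card_swap_eq (c : Conf G H T) {z : G} (hz : z ∈ T) (oz : orderOf z = 2) {g : G}
    (hg : g ∉ H) : Nat.card (Swap H g) = Nat.card (Swap H z) := by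
  obtain ⟨h, hh, e⟩ := c.two_trans hz oz hg
  refine Nat.card_congr
    { toFun := fun u => ⟨h⁻¹ * u.1 * h, ?_, ?_⟩
      invFun := fun u => ⟨h * u.1 * h⁻¹, ?_, ?_⟩
      left_inv := fun u => Subtype.ext (show h * (h⁻¹ * u.1 * h) * h⁻¹ = u.1 by group)
      right_inv := fun u => Subtype.ext (show h⁻¹ * (h * u.1 * h⁻¹) * h = u.1 by group) }
  · have := CfsgLib.Invol.invol_conj u.2.1 h⁻¹
    rwa [inv_inv] at this
  · have : z⁻¹ * (h⁻¹ * u.1 * h) = (z⁻¹ * (h⁻¹ * g)) * (g⁻¹ * u.1) * h := by group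
    rw [this]
    exact mul_mem (mul_mem e u.2.2) hh
  · exact CfsgLib.Invol.invol_conj u.2.1 h
  · have : g⁻¹ * (h * u.1 * h⁻¹) = (z⁻¹ * (h⁻¹ * g))⁻¹ * (z⁻¹ * u.1) * h⁻¹ := by group
    rw [this]
    exact mul_mem (mul_mem (inv_mem e) u.2.2) (inv_mem hh)

theorem card_invol_eq (c : Conf G H T) {z : G} (hz : z ∈ T) (oz : orderOf z = 2) :
    Nat.card {u : G // orderOf u = 2} = (Nat.card T - 1) * Nat.card (Swap H z) := by
  classical
  haveI := Fintype.ofFinite T
  have hfib : Nat.card {u : G // orderOf u = 2} =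
      Nat.card (Σ t : {t : T // t ≠ 1}, Swap H ((t.1 : T) : G)) := by
    refine Nat.card_congr
      { toFun := fun u => ⟨⟨⟨c.ht.τ u.1, c.ht.τ_mem _⟩, fun h => c.invol_notMem u.2 ?_⟩,
          ⟨u.1, u.2, c.ht.τ_spec u.1⟩⟩
        invFun := fun x => ⟨x.2.1, x.2.2.1⟩
        left_inv := fun u => rfl
        right_inv := ?_ }
    · have h1 : c.ht.τ u.1 = 1 := congrArg Subtype.val h
      have h2 := c.ht.τ_spec u.1
      rwa [h1, inv_one, one_mul] at h2
    · rintro ⟨⟨⟨t, ht⟩, ht1⟩, ⟨u, hu, htu⟩⟩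
      have hτ : c.ht.τ u = t := c.ht.τ_eq ht htu
      subst hτ
      rfl
  rw [hfib, Nat.card_sigma]
  have : ∀ t : {t : T // t ≠ 1}, Nat.card (Swap H ((t.1 : T) : G)) = Nat.card (Swap H z) :=
    fun t => c.card_swap_eq hz oz fun h => t.2 (Subtype.ext (c.ht.disj t.1.2 h))
  simp only [this, Finset.sum_const, Finset.card_univ, smul_eq_mul]
  congr 1
  simp [Nat.card_eq_fintype_card, Fintype.card_subtype_compl]

theorem invol_sylow_unique (c : Conf G H T) {u : G} (hu : orderOf u = 2) {P Q : Sylow 2 G}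
    (hP : u ∈ (P : Subgroup G)) (hQ : u ∈ (Q : Subgroup G)) : P = Q := by
  haveI : Fact (Nat.Prime 2) := ⟨Nat.prime_two⟩
  obtain ⟨S, hS⟩ := c.ht.exists_sylow
  obtain ⟨g1, e1⟩ := MulAction.exists_smul_eq G S P
  obtain ⟨g2, e2⟩ := MulAction.exists_smul_eq G S Q
  have hmem : ∀ (g : G) (P : Sylow 2 G), g • S = P → ∀ x, x ∈ (P : Subgroup G) ↔
      g⁻¹ * x * g ∈ T := by
    rintro g P rfl x
    rw [← hS, Sylow.coe_subgroup_smul, Subgroup.mem_pointwise_smul_iff_inv_smul_mem,
      MulAut.smul_def, MulAut.inv_apply, MulAut.conj_symm_apply]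
  have h1 := (hmem g1 P e1 u).1 hP
  have h2 := (hmem g2 Q e2 u).1 hQ
  have hn : g2⁻¹ * g1 ∈ normalizer (T : Set G) := by
    refine c.ti h1 ?_ (fun h => CfsgLib.Invol.invol_ne_one hu ?_)
    · rwa [show g2⁻¹ * g1 * (g1⁻¹ * u * g1) * (g2⁻¹ * g1)⁻¹ = g2⁻¹ * u * g2 by group]
    · have := congrArg (fun y => g1 * y * g1⁻¹) h
      simp only [mul_one, mul_inv_cancel] at this
      rwa [show g1 * (g1⁻¹ * u * g1) * g1⁻¹ = u by group] at this
  rw [← e1, ← e2]
  apply Sylow.ext
  ext x
  rw [hmem g1 (g1 • S) rfl, hmem g2 (g2 • S) rfl, Subgroup.mem_normalizer_iff.1 hn,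
    show g2⁻¹ * g1 * (g1⁻¹ * x * g1) * (g2⁻¹ * g1)⁻¹ = g2⁻¹ * x * g2 by group]

theorem card_invol_sylow (c : Conf G H T) :
    Nat.card {u : G // orderOf u = 2} =
      Nat.card (Sylow 2 G) * Nat.card {x : T // orderOf (x : G) = 2} := by
  classical
  haveI : Fact (Nat.Prime 2) := ⟨Nat.prime_two⟩
  haveI := Fintype.ofFinite (Sylow 2 G)
  obtain ⟨S, hS⟩ := c.ht.exists_sylow
  have hex : ∀ u : {u : G // orderOf u = 2}, ∃ P : Sylow 2 G, u.1 ∈ (P : Subgroup G) := by
    intro u
    have hu2 : IsPGroup 2 (zpowers u.1) := IsPGroup.of_card (n := 1) (by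
      rw [Nat.card_zpowers, u.2, pow_one])
    obtain ⟨P, hP⟩ := hu2.exists_le_sylow
    exact ⟨P, hP (mem_zpowers _)⟩
  choose f hf using hex
  have hfib : ∀ P : Sylow 2 G,
      Nat.card {u : {u : G // orderOf u = 2} // f u = P} =
        Nat.card {x : T // orderOf (x : G) = 2} := by
    intro P
    obtain ⟨g, rfl⟩ := MulAction.exists_smul_eq G S P
    have hmem : ∀ x, x ∈ ((g • S : Sylow 2 G) : Subgroup G) ↔ g⁻¹ * x * g ∈ T := by
      intro x
      rw [← hS, Sylow.coe_subgroup_smul, Subgroup.mem_pointwise_smul_iff_inv_smul_mem,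
        MulAut.smul_def, MulAut.inv_apply, MulAut.conj_symm_apply]
    refine Nat.card_congr
      { toFun := fun u => ⟨⟨g⁻¹ * u.1.1 * g, (hmem _).1 (by have := hf u.1; rwa [u.2] at this)⟩, ?_⟩
        invFun := fun x => ⟨⟨g * x.1.1 * g⁻¹, CfsgLib.Invol.invol_conj x.2 g⟩, ?_⟩
        left_inv := fun u => Subtype.ext (Subtype.ext (show g * (g⁻¹ * u.1.1 * g) * g⁻¹ = u.1.1
          by group))
        right_inv := fun x => Subtype.ext (Subtype.ext (show g⁻¹ * (g * x.1.1 * g⁻¹) * g = x.1.1
          by group)) }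
    · have := CfsgLib.Invol.invol_conj u.1.2 g⁻¹
      rwa [inv_inv] at this
    · refine c.invol_sylow_unique (CfsgLib.Invol.invol_conj x.2 g) (hf _) ((hmem _).2 ?_)
      rw [show g⁻¹ * (g * x.1.1 * g⁻¹) * g = x.1.1 by group]
      exact x.1.2
  rw [← Nat.card_congr (Equiv.sigmaFiberEquiv f), Nat.card_sigma]
  simp only [hfib, Finset.sum_const, Finset.card_univ, smul_eq_mul, Nat.card_eq_fintype_card]

theorem card_sylow_eq (c : Conf G H T) :
    ∃ m : ℕ, 1 ≤ m ∧ Nat.card (Sylow 2 G) = 1 + m * Nat.card T := by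
  classical
  haveI : Fact (Nat.Prime 2) := ⟨Nat.prime_two⟩
  obtain ⟨S, hS⟩ := c.ht.exists_sylow
  haveI := Fintype.ofFinite (MulAction.orbitRel.Quotient T (Sylow 2 G))
  set Ω := MulAction.orbitRel.Quotient T (Sylow 2 G)
  have hfree : ∀ P : Sylow 2 G, P ≠ S → ∀ t : T, t • P = P → t = 1 := by
    intro P hP t ht
    by_contra h1
    have hn : (t : G) ∈ normalizer ((P : Subgroup G) : Set G) :=
      Sylow.smul_eq_iff_mem_normalizer.1 ht
    have htP : (t : G) ∈ (P : Subgroup G) := by
      have h2 : IsPGroup 2 ((zpowers (t : G)) ⊔ (P : Subgroup G) : Subgroup G) :=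
        (c.ht.two.to_le (by rw [zpowers_le]; exact t.2)).to_sup_of_normal_right' P.2
          (by rw [zpowers_le]; exact hn)
      exact (P.3 h2 le_sup_right).le ((le_sup_left : zpowers (t : G) ≤ _) (mem_zpowers _))
    -- an involution in both
    obtain ⟨k, hk⟩ := c.ht.two t
    have heven : Even (orderOf (t : G)) := by
      by_contra h
      exact h1 (Subtype.ext (CfsgLib.Invol.eq_one_of_odd_of_pow_two (Nat.not_even_iff_odd.1 h)
        (congrArg Subtype.val hk)))
    refine hP (c.invol_sylow_unique (CfsgLib.Invol.orderOf_pow_half heven) (pow_mem htP _) ?_)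
    rw [hS]
    exact pow_mem t.2 _
  have horbS : MulAction.orbit T S = {S} := by
    ext P
    constructor
    · rintro ⟨t, rfl⟩
      refine Set.mem_singleton_iff.2 (Sylow.smul_eq_iff_mem_normalizer.2 ?_)
      change (t : G) ∈ normalizer ((S : Subgroup G) : Set G)
      rw [hS]
      exact le_normalizer t.2
    · rintro rfl
      exact MulAction.mem_orbit_self _
  have hsum : Nat.card (Sylow 2 G) = ∑ ω : Ω, Nat.card ω.orbit := by
    rw [← Nat.card_sigma]
    exact Nat.card_congr (MulAction.selfEquivSigmaOrbits' T (Sylow 2 G))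
  set ω₀ : Ω := Quotient.mk'' S with hω
  have h0 : Nat.card ω₀.orbit = 1 := by
    rw [show ω₀.orbit = MulAction.orbit T S from MulAction.orbitRel.Quotient.orbit_mk S, horbS]
    simp
  have hother : ∀ ω : Ω, ω ≠ ω₀ → Nat.card ω.orbit = Nat.card T := by
    intro ω
    induction ω using Quotient.inductionOn' with
    | h P =>
      intro hne
      have hPS : P ≠ S := fun h => hne (by rw [h])
      show Nat.card (MulAction.orbitRel.Quotient.orbit (Quotient.mk'' P : Ω)) = _
      rw [MulAction.orbitRel.Quotient.orbit_mk, Nat.card_coe_set_eq, ← MulAction.index_stabilizer]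
      have : MulAction.stabilizer T P = ⊥ := (eq_bot_iff).2 fun t ht =>
        mem_bot.2 (hfree P hPS t (MulAction.mem_stabilizer_iff.1 ht))
      rw [this, Subgroup.index_bot]
  rw [← Finset.add_sum_erase _ _ (Finset.mem_univ ω₀), h0,
    Finset.sum_congr rfl fun ω hω' => hother ω (Finset.ne_of_mem_erase hω'), Finset.sum_const,
    smul_eq_mul] at hsum
  refine ⟨_, ?_, hsum⟩
  by_contra hm
  have hm0 : (Finset.univ.erase ω₀).card = 0 := by omega
  rw [hm0, zero_mul, add_zero] at hsum
  haveI : Subsingleton (Sylow 2 G) := (Nat.card_eq_one_iff_unique.1 hsum).1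
  haveI := Sylow.normal_of_subsingleton S
  haveI : T.Normal := hS ▸ this
  obtain ⟨z, hz, oz⟩ := c.exists_invol
  rcases eq_or_ne T ⊥ with hb | hb
  · exact CfsgLib.Invol.invol_ne_one oz (mem_bot.1 (hb ▸ hz))
  · exact c.T_ne_top (c.simple T inferInstance hb)

/-- At least about half of `|T|` involutions move the base point to a given other point. -/
theorem swap_bound (c : Conf G H T) {z : G} (hz : z ∈ T) (oz : orderOf z = 2) :
    Nat.card T < 2 * Nat.card (Swap H z) + 2 := by
  classical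
  set k := Nat.card (Swap H z) with hk
  set q := Nat.card T with hq
  set i := Nat.card {x : T // orderOf (x : G) = 2} with hi
  obtain ⟨m, hm, hd⟩ := c.card_sylow_eq
  have heq : (q - 1) * k = (1 + m * q) * i := by
    rw [hk, hq, ← c.card_invol_eq hz oz, c.card_invol_sylow, hd]
  let O : Subgroup T :=
    { carrier := {x | x * x = 1}
      one_mem' := one_mul 1
      mul_mem' := fun {a b} ha hb => Subtype.ext (by
        have ha' : (a : G) * a = 1 := congrArg Subtype.val ha
        have hb' : (b : G) * b = 1 := congrArg Subtype.val hb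
        show (a : G) * b * (a * b) = 1
        rw [show (a : G) * b * (a * b) = a * (b * a) * b by group, (c.T_comm b.2 a.2).eq,
          show (a : G) * (a * b) * b = a * a * (b * b) by group, ha', hb', one_mul])
      inv_mem' := fun {a} ha => by
        show a⁻¹ * a⁻¹ = 1
        rw [← mul_inv_rev, show a * a = 1 from ha, inv_one] }
  have hO : Nat.card O = i + 1 := by
    rw [hi, ← Finite.card_option]
    refine (Nat.card_congr (α := Option {x : T // orderOf (x : G) = 2}) (β := O)
      { toFun := fun o => o.elim 1 fun x => ⟨x.1, ?_⟩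
        invFun := fun y => if h : y = 1 then none else some ⟨y.1, ?_⟩
        left_inv := ?_
        right_inv := ?_ }).symm
    · exact Subtype.ext (CfsgLib.Invol.invol_mul_self x.2)
    · exact CfsgLib.Invol.invol_iff.2 ⟨congrArg Subtype.val y.2, fun e =>
        h (Subtype.ext (Subtype.ext e))⟩
    · intro o
      cases o with
      | none => simp
      | some x =>
        have hne : ¬ ((⟨x.1, Subtype.ext (CfsgLib.Invol.invol_mul_self x.2)⟩ : O) = 1) :=
          fun h => CfsgLib.Invol.invol_ne_one x.2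
            (congrArg Subtype.val (congrArg Subtype.val h))
        simp [hne]
    · intro y
      by_cases h : y = 1
      · simp [h]
      · simp [h]
  have hdvd : i + 1 ∣ q := hO ▸ Subgroup.card_subgroup_dvd_card O
  have hq1 : 1 ≤ q := Nat.card_pos
  have hi1 : 1 ≤ i := Nat.card_pos_iff.2 ⟨⟨⟨z, hz⟩, oz⟩, inferInstance⟩
  rcases Nat.lt_or_ge (i + 1) q with hlt | hge
  · obtain ⟨r, hr⟩ := hdvd
    have hr2 : 2 ≤ r := by
      by_contra h
      interval_cases r <;> omega
    have h2 : 2 * (i + 1) ≤ q := by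
      rw [hr]
      calc 2 * (i + 1) = (i + 1) * 2 := by ring
        _ ≤ (i + 1) * r := Nat.mul_le_mul_left _ hr2
    have e2 : k + i + m * i * q = k * q := by
      have e1 : (q - 1) * k + k = k * q := by
        obtain ⟨q', hq'⟩ := Nat.exists_eq_add_of_le hq1
        rw [hq', Nat.add_sub_cancel_left]
        ring
      rw [← e1, heq]
      ring
    have hdiv : q ∣ k + i := by
      have h3 : q ∣ k + i + m * i * q := ⟨k, by rw [e2, mul_comm]⟩
      exact (Nat.dvd_add_left ⟨m * i, by rw [mul_comm]⟩).1 h3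
    have := Nat.le_of_dvd (by omega) hdiv
    omega
  · have hiq : i + 1 = q := le_antisymm (Nat.le_of_dvd (by omega) hdvd) hge
    have hqi : q - 1 = i := by omega
    rw [hqi, mul_comm (1 + m * q)] at heq
    have hk1 : k = 1 + m * q := Nat.eq_of_mul_eq_mul_left hi1 heq
    have : q ≤ m * q := Nat.le_mul_of_pos_left q hm
    omega

end Conf

end CfsgLib.AGroupHT
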