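import Cfsg.Agent.Lib.PGroup.AGroupHT.Count

/-!
The final contradiction: an element fixing one point commutes with a conjugate fixing another.
-/

set_option autoImplicit false
set_option linter.style.haveILetI false
set_option linter.unusedSectionVars false

namespace CfsgLib.AGroupHT

open Subgroup

universe u

namespace Conf

variable {G : Type u} [Group G] [Finite G] {H T V : Subgroup G} {s : ℕ} {R : Sylow s G}

/-- An element of `V` cannot commute with a nontrivial element inverted by an involution. -/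
theorem false_of_inverted (c : Conf G H T) (d : VData G H s V R) {v w u : G} (hv : v ∈ V)
    (hv1 : v ≠ 1) (hw : Odd (orderOf w)) (hw1 : w ≠ 1) (hvw : Commute v w)
    (huw : u * w * u⁻¹ = w⁻¹) : False := by
  haveI := Fact.mk d.prime
  set K := centralizer ({w} : Set G) with hK
  have hvK : v ∈ K := mem_centralizer_singleton_iff.2 hvw.eq
  have hvs : IsPGroup s (zpowers (⟨v, hvK⟩ : K)) := by
    rintro ⟨y, hy⟩
    obtain ⟨i, rfl⟩ := mem_zpowers_iff.1 hy
    obtain ⟨k, hk⟩ := R.2 ⟨v, d.leR hv⟩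
    have hk' : v ^ s ^ k = 1 := congrArg Subtype.val hk
    refine ⟨k, Subtype.ext (Subtype.ext ?_)⟩
    show (v ^ i) ^ s ^ k = 1
    rw [← zpow_natCast, ← zpow_mul, mul_comm, zpow_mul, zpow_natCast, hk']
    exact one_zpow i
  obtain ⟨S, hS⟩ := hvs.exists_le_sylow
  set S₀ : Subgroup G := (S : Subgroup K).map K.subtype with hS0
  have hvS : v ∈ S₀ := ⟨⟨v, hvK⟩, hS (mem_zpowers _), rfl⟩
  have huK : ∀ g ∈ K, u * g * u⁻¹ ∈ K := by
    intro g hg
    rw [mem_centralizer_singleton_iff] at hg ⊢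
    have hg' : g * w⁻¹ = w⁻¹ * g := Commute.inv_right hg
    have e : w = u * w⁻¹ * u⁻¹ := by
      have := congrArg (fun y => y⁻¹) huw
      simpa [mul_inv_rev, mul_assoc] using this.symm
    calc u * g * u⁻¹ * w = u * g * u⁻¹ * (u * w⁻¹ * u⁻¹) := by rw [← e]
      _ = u * (g * w⁻¹) * u⁻¹ := by group
      _ = u * (w⁻¹ * g) * u⁻¹ := by rw [hg']
      _ = u * w⁻¹ * u⁻¹ * (u * g * u⁻¹) := by group
      _ = w * (u * g * u⁻¹) := by rw [← e]
  have hmap : S₀.map (MulAut.conj u).toMonoidHom ≤ K := by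
    rintro _ ⟨y, hy, rfl⟩
    exact huK y (map_subtype_le _ hy)
  have hS2 : IsPGroup s ((S₀.map (MulAut.conj u).toMonoidHom).subgroupOf K) :=
    ((S.2.map _).map _).comap_of_injective _ K.subtype_injective
  obtain ⟨g, hg⟩ := CfsgLib.Invol.exists_conj_le_sylow hS2 S
  set y₀ := (g : G) * u with hy0
  have hy₀n : y₀ ∈ normalizer (S₀ : Set G) := by
    refine mem_normalizer_of_conj_le fun x hx => ?_
    refine ⟨g * ⟨u * x * u⁻¹, hmap ⟨x, hx, rfl⟩⟩ * g⁻¹, hg _ (mem_subgroupOf.2 ⟨x, hx, rfl⟩), ?_⟩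
    show (g : G) * (u * x * u⁻¹) * (g : G)⁻¹ = y₀ * x * y₀⁻¹
    rw [hy0]; group
  have hy₀w : y₀ * w * y₀⁻¹ = w⁻¹ := by
    rw [hy0, mul_inv_rev, show (g : G) * u * w * (u⁻¹ * (g : G)⁻¹) = g * (u * w * u⁻¹) * (g : G)⁻¹
      by group, huw]
    rw [(Commute.inv_right (mem_centralizer_singleton_iff.1 g.2) : Commute (g : G) w⁻¹).eq,
      mul_inv_cancel_right]
  obtain ⟨e, m, hm, ho⟩ := Nat.exists_eq_pow_mul_and_not_dvd (orderOf_pos y₀).ne' 2 (by norm_num)
  set y := y₀ ^ m with hy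
  have hy2 : y ^ 2 ^ e = 1 := by rw [hy, ← pow_mul, mul_comm, ← ho, pow_orderOf_eq_one]
  have hyw : y * w * y⁻¹ = w⁻¹ := by
    have h2 : ∀ j : ℕ, y₀ ^ (2 * j) * w * (y₀ ^ (2 * j))⁻¹ = w := by
      intro j
      induction j with
      | zero => simp
      | succ j ih =>
        have h1 : y₀ * w⁻¹ * y₀⁻¹ = w := by
          have := congrArg (fun x => x⁻¹) hy₀w
          simpa [mul_inv_rev, mul_assoc] using this
        rw [show 2 * (j + 1) = 2 * j + 1 + 1 by ring, pow_succ, pow_succ]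
        calc y₀ ^ (2 * j) * y₀ * y₀ * w * (y₀ ^ (2 * j) * y₀ * y₀)⁻¹
            = y₀ ^ (2 * j) * (y₀ * (y₀ * w * y₀⁻¹) * y₀⁻¹) * (y₀ ^ (2 * j))⁻¹ := by group
          _ = w := by rw [hy₀w, h1, ih]
    obtain ⟨j, hj⟩ : Odd m := Nat.not_even_iff_odd.1 fun h => hm h.two_dvd
    rw [hy, hj, add_comm, pow_add, pow_one,
      show y₀ * y₀ ^ (2 * j) * w * (y₀ * y₀ ^ (2 * j))⁻¹ =
        y₀ * (y₀ ^ (2 * j) * w * (y₀ ^ (2 * j))⁻¹) * y₀⁻¹ by group, h2, hy₀w]
  have hy1 : y ≠ 1 := by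
    intro h
    rw [h, one_mul, inv_one, mul_one] at hyw
    exact hw1 (eq_one_of_inv_eq hw hyw.symm)
  -- `v` and its conjugate commute
  have hyS : y * v * y⁻¹ ∈ S₀ :=
    (Subgroup.mem_normalizer_iff.1 (pow_mem hy₀n m) v).1 hvS
  have hcomm : Commute (y * v * y⁻¹) v :=
    c.ab s S₀ d.prime (S.2.map _) _ hyS v hvS
  have h1 : (y⁻¹ * v * y)⁻¹ * v * (y⁻¹ * v * y) = v := by
    have e1 := hcomm.eq
    have e2 : v * (y⁻¹ * v * y) = y⁻¹ * v * y * v := by
      calc v * (y⁻¹ * v * y) = y⁻¹ * (y * v * y⁻¹ * v) * y := by group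
        _ = y⁻¹ * (v * (y * v * y⁻¹)) * y := by rw [e1]
        _ = y⁻¹ * v * y * v := by group
    rw [mul_assoc, e2, inv_mul_cancel_left]
  have hyv : y⁻¹ * v * y ∈ H := by
    by_contra hn
    exact hv1 (c.semireg d hv (by rw [h1]; exact d.RleH (d.leR hv)) hn)
  have hyH : y ∈ H := by
    by_contra hn
    exact hv1 (c.semireg d hv hyv hn)
  exact hy1 (CfsgLib.Invol.eq_one_of_odd_of_pow_two
    (c.ht.odd.of_dvd_nat (Subgroup.orderOf_dvd_natCard H hyH)) hy2)

theorem absurd_conf (c : Conf G H T) (d : VData G H s V R) : False := by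
  classical
  obtain ⟨z, hz, oz⟩ := c.exists_invol
  have hzz := CfsgLib.Invol.invol_mul_self oz
  have hzi := CfsgLib.Invol.invol_inv oz
  have hzH : z ∉ H := c.invol_notMem oz
  obtain ⟨v, hv, hv1⟩ := d.ne
  let D : Subgroup G := H ⊓ H.comap (MulAut.conj z).toMonoidHom
  have hDmem : ∀ {x : G}, x ∈ D ↔ x ∈ H ∧ z * x * z ∈ H := by
    intro x
    show x ∈ H ∧ z * x * z⁻¹ ∈ H ↔ _
    rw [hzi]
  have hDz : ∀ {x : G}, x ∈ D → z * x * z ∈ D := by
    intro x hx
    obtain ⟨h1, h2⟩ := hDmem.1 hx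
    refine hDmem.2 ⟨h2, ?_⟩
    rwa [show z * (z * x * z) * z = (z * z) * x * (z * z) by group, hzz, one_mul, mul_one]
  have hDodd : ∀ {x : G}, x ∈ D → Odd (orderOf x) := fun {x} hx =>
    c.ht.odd.of_dvd_nat (Subgroup.orderOf_dvd_natCard H hx.1)
  let C : Subgroup G := D ⊓ centralizer ({z} : Set G)
  let X : Subgroup G := D ⊓ centralizer ({v} : Set G)
  let J : Type u := {x : G // x ∈ D ∧ z * x * z = x⁻¹}
  have hzu : ∀ a : G, a * a = 1 → z * (z * a) * z = (z * a)⁻¹ := by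
    intro a ha
    rw [mul_inv_rev, hzi, inv_eq_of_mul_eq_one_right ha, ← mul_assoc z z, hzz, one_mul]
  have hJ : Nat.card J = Nat.card (Swap H z) := by
    refine Nat.card_congr
      { toFun := fun x => ⟨z * x.1, ?_, ?_⟩
        invFun := fun u => ⟨z * u.1, ?_, ?_⟩
        left_inv := fun x => Subtype.ext (show z * (z * x.1) = x.1 by rw [← mul_assoc, hzz, one_mul])
        right_inv := fun u => Subtype.ext (show z * (z * u.1) = u.1 by
          rw [← mul_assoc, hzz, one_mul]) }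
    · refine CfsgLib.Invol.invol_iff.2 ⟨?_, fun h => hzH ?_⟩
      · rw [show z * x.1 * (z * x.1) = z * x.1 * z * x.1 by group, x.2.2, inv_mul_cancel]
      · rw [show z = x.1⁻¹ from eq_inv_of_mul_eq_one_left h]
        exact inv_mem x.2.1.1
    · rw [← mul_assoc, inv_mul_cancel, one_mul]
      exact x.2.1.1
    · have hmem : z * u.1 ∈ H := by simpa [hzi] using u.2.2
      refine hDmem.2 ⟨hmem, ?_⟩
      rw [hzu u.1 (CfsgLib.Invol.invol_mul_self u.2.1)]
      exact inv_mem hmem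
    · exact hzu u.1 (CfsgLib.Invol.invol_mul_self u.2.1)
  -- square roots inside `D`
  have hdec : ∀ x ∈ D, ∃ j : J, ∃ e ∈ C, x = j.1 * e := by
    intro x hx
    set f := x * (z * x * z)⁻¹ with hf
    have hfD : f ∈ D := mul_mem hx (inv_mem (hDz hx))
    have hfz : z * f * z = f⁻¹ := by
      rw [hf, mul_inv_rev x, inv_inv, show (z * x * z)⁻¹ = z * x⁻¹ * z by
        simp [mul_inv_rev, hzi, mul_assoc]]
      rw [show z * (x * (z * x⁻¹ * z)) * z = z * x * z * x⁻¹ * (z * z) by group, hzz, mul_one]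
    obtain ⟨m, hm⟩ := hDodd hfD
    set j := f ^ (m + 1) with hj
    have hj2 : j * j = f := by
      rw [hj, ← pow_add, show m + 1 + (m + 1) = 2 * m + 1 + 1 by ring, pow_succ, ← hm,
        pow_orderOf_eq_one, one_mul]
    have hjz : z * j * z = j⁻¹ := by
      have := conj_pow (i := m + 1) (a := z) (b := f)
      rw [hzi, hfz] at this
      rw [hj, ← inv_pow, this]
    refine ⟨⟨j, pow_mem hfD _, hjz⟩, j⁻¹ * x, Subgroup.mem_inf.2
      ⟨mul_mem (inv_mem (pow_mem hfD _)) hx, ?_⟩, (mul_inv_cancel_left j x).symm⟩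
    rw [mem_centralizer_singleton_iff]
    have hzxz : z * x * z = f⁻¹ * x := by rw [hf]; group
    have hjz' : z * j⁻¹ * z = j := by
      have := congrArg (fun y => y⁻¹) hjz
      simpa [mul_inv_rev, hzi, mul_assoc] using this
    have : z * (j⁻¹ * x) * z = j⁻¹ * x := by
      calc z * (j⁻¹ * x) * z = (z * j⁻¹ * z) * (z * x * z) := by
            rw [show z * j⁻¹ * z * (z * x * z) = z * j⁻¹ * (z * z) * x * z by group, hzz]
            group
        _ = j * ((j * j)⁻¹ * x) := by rw [hjz', hzxz, hj2]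
        _ = j⁻¹ * x := by group
    calc j⁻¹ * x * z = z * z * (j⁻¹ * x * z) := by rw [hzz, one_mul]
      _ = z * (z * (j⁻¹ * x) * z) := by group
      _ = z * (j⁻¹ * x) := by rw [this]
  have huniq : ∀ (j k : J), ∀ e ∈ C, ∀ f ∈ C, j.1 * e = k.1 * f → j = k := by
    intro j k e he f hf hjk
    have he' : z * e * z = e := by
      rw [← mem_centralizer_singleton_iff.1 he.2, mul_assoc, hzz, mul_one]
    have hf' : z * f * z = f := by
      rw [← mem_centralizer_singleton_iff.1 hf.2, mul_assoc, hzz, mul_one]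
    have h2 : j.1⁻¹ * e = k.1⁻¹ * f := by
      have : z * (j.1 * e) * z = z * (k.1 * f) * z := congrArg (fun y => z * y * z) hjk
      rw [show z * (j.1 * e) * z = z * j.1 * (z * z) * e * z by rw [hzz]; group,
        show z * (k.1 * f) * z = z * k.1 * (z * z) * f * z by rw [hzz]; group,
        show z * j.1 * (z * z) * e * z = (z * j.1 * z) * (z * e * z) by group,
        show z * k.1 * (z * z) * f * z = (z * k.1 * z) * (z * f * z) by group,
        j.2.2, k.2.2, he', hf'] at this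
      exact this
    -- `k⁻¹ j = f e⁻¹ = k j⁻¹`
    have a1 : k.1⁻¹ * j.1 = f * e⁻¹ := by
      rw [eq_mul_inv_iff_mul_eq, mul_assoc, hjk, inv_mul_cancel_left]
    have a2 : k.1 * j.1⁻¹ = f * e⁻¹ := by
      rw [eq_mul_inv_iff_mul_eq, mul_assoc, h2, mul_inv_cancel_left]
    have a3 : j.1 * j.1 = k.1 * k.1 := by
      calc j.1 * j.1 = k.1 * (k.1⁻¹ * j.1) * j.1 := by group
        _ = k.1 * (k.1 * j.1⁻¹) * j.1 := by rw [a1, a2]
        _ = k.1 * k.1 := by group
    obtain ⟨a, ha⟩ := hDodd j.2.1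
    obtain ⟨b, hb⟩ := hDodd k.2.1
    have hroot : ∀ (x : G) (n : ℕ), x ^ n = 1 → Odd n → x = (x * x) ^ ((n + 1) / 2) := by
      rintro x n hn ⟨l, rfl⟩
      rw [← pow_two, ← pow_mul, show 2 * ((2 * l + 1 + 1) / 2) = 2 * l + 1 + 1 by omega, pow_succ,
        hn, one_mul]
    have hn1 : j.1 ^ (orderOf j.1 * orderOf k.1) = 1 := by rw [pow_mul, pow_orderOf_eq_one, one_pow]
    have hn2 : k.1 ^ (orderOf j.1 * orderOf k.1) = 1 := by
      rw [mul_comm, pow_mul, pow_orderOf_eq_one, one_pow]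
    have hodd := (hDodd j.2.1).mul (hDodd k.2.1)
    refine Subtype.ext ?_
    exact (hroot j.1 _ hn1 hodd).trans
      ((congrArg (fun y => y ^ _) a3).trans (hroot k.1 _ hn2 hodd).symm)
  have hcardD : Nat.card D = Nat.card J * Nat.card C := by
    rw [← Nat.card_prod]
    refine (Nat.card_congr (Equiv.ofBijective
      (fun p : J × C => (⟨p.1.1 * p.2, mul_mem p.1.2.1 p.2.2.1⟩ : D)) ⟨?_, ?_⟩)).symm
    · rintro ⟨j, e⟩ ⟨k, f⟩ hjk
      have h := congrArg Subtype.val hjk
      have hjk' := huniq j k e e.2 f f.2 h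
      subst hjk'
      exact Prod.ext rfl (Subtype.ext (mul_left_cancel h))
    · rintro ⟨x, hx⟩
      obtain ⟨j, e, he, rfl⟩ := hdec x hx
      exact ⟨(j, ⟨e, he⟩), rfl⟩
  -- the orbit of `v` under `D` is small
  have horb : 2 * X.relIndex D + 1 ≤ Nat.card V := by
    set X' := X.subgroupOf D with hX'
    let f : (D ⧸ X') ⊕ (D ⧸ X') → {y : V // y ≠ 1} := fun p =>
      p.elim (fun q => ⟨⟨(q.out : G) * v * (q.out : G)⁻¹, d.norm _ q.out.2.1 v hv⟩, fun h =>
          hv1 (conj_eq_one_iff.1 (congrArg Subtype.val h))⟩)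
        (fun q => ⟨⟨(q.out : G) * v⁻¹ * (q.out : G)⁻¹, d.norm _ q.out.2.1 _ (inv_mem hv)⟩, fun h =>
          hv1 (inv_eq_one.1 (conj_eq_one_iff.1 (congrArg Subtype.val h)))⟩)
    have hsame : ∀ a b : D ⧸ X',
        (a.out : G) * v * (a.out : G)⁻¹ = (b.out : G) * v * (b.out : G)⁻¹ → a = b := by
      intro a b h
      rw [← QuotientGroup.out_eq' a, ← QuotientGroup.out_eq' b, QuotientGroup.eq]
      refine mem_subgroupOf.2 ?_
      refine Subgroup.mem_inf.2 ⟨(a.out⁻¹ * b.out).2, mem_centralizer_singleton_iff.2 ?_⟩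
      push_cast
      calc (a.out : G)⁻¹ * b.out * v
          = (a.out : G)⁻¹ * ((b.out : G) * v * (b.out : G)⁻¹) * b.out := by group
        _ = (a.out : G)⁻¹ * ((a.out : G) * v * (a.out : G)⁻¹) * b.out := by rw [h]
        _ = v * ((a.out : G)⁻¹ * b.out) := by group
    have hdiff : ∀ a b : D ⧸ X',
        (a.out : G) * v * (a.out : G)⁻¹ ≠ (b.out : G) * v⁻¹ * (b.out : G)⁻¹ := by
      intro a b h
      set r := ((b.out : G))⁻¹ * a.out with hr
      have hrD : r ∈ D := mul_mem (inv_mem b.out.2) a.out.2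
      have h1 : r * v * r⁻¹ = v⁻¹ := by
        rw [hr, show (b.out : G)⁻¹ * a.out * v * ((b.out : G)⁻¹ * a.out)⁻¹ =
          (b.out : G)⁻¹ * ((a.out : G) * v * (a.out : G)⁻¹) * b.out by group, h]
        group
      obtain ⟨l, hl⟩ := hDodd hrD
      have h3 : ∀ j : ℕ, r ^ (2 * j) * v * (r ^ (2 * j))⁻¹ = v := by
        intro j
        induction j with
        | zero => simp
        | succ j ih =>
          have h1' : r * v⁻¹ * r⁻¹ = v := by
            have := congrArg (fun x => x⁻¹) h1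
            simpa [mul_inv_rev, mul_assoc] using this
          rw [show 2 * (j + 1) = 2 * j + 1 + 1 by ring, pow_succ, pow_succ]
          calc r ^ (2 * j) * r * r * v * (r ^ (2 * j) * r * r)⁻¹
              = r ^ (2 * j) * (r * (r * v * r⁻¹) * r⁻¹) * (r ^ (2 * j))⁻¹ := by group
            _ = v := by rw [h1, h1', ih]
      have h4 : v = v⁻¹ := by
        calc v = r ^ (2 * l + 1) * v * (r ^ (2 * l + 1))⁻¹ := by
              rw [← hl, pow_orderOf_eq_one]; group
          _ = r * (r ^ (2 * l) * v * (r ^ (2 * l))⁻¹) * r⁻¹ := by rw [add_comm, pow_add]; group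
          _ = v⁻¹ := by rw [h3, h1]
      exact hv1 (eq_one_of_inv_eq
        (c.ht.odd.of_dvd_nat (Subgroup.orderOf_dvd_natCard H (d.RleH (d.leR hv)))) h4.symm)
    have hinj : Function.Injective f := by
      rintro (a | a) (b | b) hab <;>
        have h := congrArg (fun y : {y : V // y ≠ 1} => ((y.1 : V) : G)) hab <;>
        simp only [f, Sum.elim_inl, Sum.elim_inr] at h
      · exact congrArg Sum.inl (hsame a b h)
      · exact absurd h (hdiff a b)
      · exact absurd h.symm (hdiff b a)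
      · refine congrArg Sum.inr (hsame a b ?_)
        have h' := congrArg (fun y => y⁻¹) h
        simpa [mul_inv_rev, mul_assoc] using h'
    have h5 := Nat.card_le_card_of_injective f hinj
    rw [Nat.card_sum] at h5
    have h6 : Nat.card {y : V // y ≠ 1} < Nat.card V := by
      haveI := Fintype.ofFinite V
      rw [Nat.card_eq_fintype_card, Nat.card_eq_fintype_card]
      exact Fintype.card_subtype_lt (x := 1) (by simp)
    have h7 : Nat.card (D ⧸ X') = X.relIndex D := rfl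
    omega
  have hV : Nat.card V + 1 ≤ Nat.card T := by
    let f : Option V → T := fun o => o.elim 1 fun a => ⟨c.ht.τ ((a : G) * z), c.ht.τ_mem _⟩
    have h0 : ∀ a : V, c.ht.τ ((a : G) * z) ≠ 1 := by
      intro a h
      have h2 := c.ht.τ_spec ((a : G) * z)
      rw [h, inv_one, one_mul] at h2
      apply hzH
      have := mul_mem (inv_mem (d.RleH (d.leR a.2))) h2
      rwa [inv_mul_cancel_left] at this
    have hinj : Function.Injective f := by
      rintro (- | a) (- | b) hab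
      · rfl
      · exact absurd (congrArg Subtype.val hab).symm (h0 b)
      · exact absurd (congrArg Subtype.val hab) (h0 a)
      · have e : c.ht.τ ((a : G) * z) = c.ht.τ ((b : G) * z) := congrArg Subtype.val hab
        have h2 := mul_mem (inv_mem (c.ht.τ_spec ((a : G) * z))) (c.ht.τ_spec ((b : G) * z))
        rw [← e, show ((c.ht.τ ((a : G) * z))⁻¹ * ((a : G) * z))⁻¹ *
          ((c.ht.τ ((a : G) * z))⁻¹ * ((b : G) * z)) = z⁻¹ * ((a : G)⁻¹ * b) * z by group] at h2
        have h3 := c.semireg d (mul_mem (inv_mem a.2) b.2) h2 hzH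
        exact congrArg some (Subtype.ext (inv_mul_eq_one.1 h3))
    have := Nat.card_le_card_of_injective f hinj
    rwa [Finite.card_option] at this
  -- pigeonhole
  have hsw := c.swap_bound hz oz
  have hlt : X.relIndex D < Nat.card J := by rw [hJ]; omega
  have hXC : Nat.card C < Nat.card X := by
    have h1 : Nat.card X * X.relIndex D = Nat.card D := by
      rw [← (X.subgroupOf D).card_mul_index]
      congr 1
      exact Nat.card_congr (Subgroup.subgroupOfEquivOfLe inf_le_left).toEquiv.symm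
    by_contra hle
    push Not at hle
    rw [hcardD] at h1
    have h2 : Nat.card X * X.relIndex D < Nat.card J * Nat.card C := by
      calc Nat.card X * X.relIndex D ≤ Nat.card C * X.relIndex D := Nat.mul_le_mul_right _ hle
        _ < Nat.card C * Nat.card J := Nat.mul_lt_mul_of_pos_left hlt Nat.card_pos
        _ = Nat.card J * Nat.card C := mul_comm _ _
    omega
  have hpig : ∀ x : X, ∃ j : J, ∃ e : C, (x : G) = j.1 * e := by
    intro x
    obtain ⟨j, e, he, h⟩ := hdec x x.2.1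
    exact ⟨j, ⟨e, he⟩, h⟩
  choose φj φe hφ using hpig
  haveI := Fintype.ofFinite X
  haveI := Fintype.ofFinite C
  obtain ⟨x₁, x₂, hne, heq⟩ := Fintype.exists_ne_map_eq_of_card_lt φe
    (by rwa [← Nat.card_eq_fintype_card, ← Nat.card_eq_fintype_card])
  set j₁ := (φj x₁).1 with hj1
  set j₂ := (φj x₂).1 with hj2
  have hw : (x₁ : G) * (x₂ : G)⁻¹ = j₁ * j₂⁻¹ := by
    rw [hφ x₁, hφ x₂, heq, ← hj1, ← hj2]
    group
  refine c.false_of_inverted d (w := j₁ * j₂⁻¹) (u := j₂ * z) hv hv1 ?_ ?_ ?_ ?_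
  · exact hDodd (mul_mem (φj x₁).2.1 (inv_mem (φj x₂).2.1))
  · rw [← hw]
    exact fun h => hne (Subtype.ext (mul_inv_eq_one.1 h))
  · rw [← hw]
    exact ((mem_centralizer_singleton_iff.1 (mul_mem x₁.2.2 (inv_mem x₂.2.2)) :
      (x₁ : G) * (x₂ : G)⁻¹ * v = v * ((x₁ : G) * (x₂ : G)⁻¹))).symm
  · have e1 : z * j₁ * z = j₁⁻¹ := (φj x₁).2.2
    have e2 : z * j₂⁻¹ * z = j₂ := by
      have := congrArg (fun y => y⁻¹) (φj x₂).2.2
      simpa [mul_inv_rev, hzi, mul_assoc, hj2] using this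
    calc j₂ * z * (j₁ * j₂⁻¹) * (j₂ * z)⁻¹
        = j₂ * (z * j₁ * z⁻¹) * (z * j₂⁻¹ * z⁻¹) * j₂⁻¹ := by group
      _ = j₂ * (z * j₁ * z) * (z * j₂⁻¹ * z) * j₂⁻¹ := by rw [hzi]
      _ = (j₁ * j₂⁻¹)⁻¹ := by rw [e1, e2]; group

end Conf

end CfsgLib.AGroupHT
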