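import Cfsg.Agent.Lib.PGroup.AGroupHT.Final
import Cfsg.Agent.Lib.Coprime.Component

/-!
A finite group with abelian Sylow subgroups that is a product of a 2-group and a subgroup of odd
order is solvable.
-/

set_option autoImplicit false
set_option linter.style.haveILetI false
set_option linter.unusedSectionVars false

namespace CfsgLib.AGroupHT

open Subgroup

universe u

theorem Conf.false' {G : Type u} [Group G] [Finite G] {H T : Subgroup G} (c : Conf G H T) :
    False := by
  classical
  have hH : H ≠ ⊥ := by
    intro h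
    apply c.T_ne_top
    rw [eq_top_iff]
    intro g _
    obtain ⟨t, ht, a, ha, e⟩ := c.ht.cover g
    rw [h, mem_bot] at ha
    rwa [e, ha, mul_one]
  haveI : Group.IsSolvable H := CfsgLib.FT.isSolvable_of_odd H c.ht.odd
  obtain ⟨s, hs, hne⟩ : ∃ s : ℕ, s.Prime ∧ Cfsg.pCore s H ≠ ⊥ := by
    by_contra h
    push Not at h
    have hF : Cfsg.fittingSubgroup H = ⊥ := by
      rw [CfsgLib.Coprime.fitting_eq_iSup_pCore, iSup_eq_bot]
      exact fun p => h p p.2
    have h1 := CfsgLib.Coprime.centralizer_fitting_le (G := H)
    rw [hF] at h1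
    apply hH
    rw [eq_bot_iff]
    intro x hx
    have h2 : (⟨x, hx⟩ : H) ∈ (⊥ : Subgroup H) := h1 (by
      rw [mem_centralizer_iff]
      intro y hy
      rw [Subgroup.coe_bot, Set.mem_singleton_iff] at hy
      subst hy
      rw [one_mul, mul_one])
    exact mem_bot.2 (congrArg Subtype.val (mem_bot.1 h2))
  haveI := Fact.mk hs
  obtain ⟨S⟩ : Nonempty (Sylow s H) := inferInstance
  set V : Subgroup G := (Cfsg.pCore s H).map H.subtype with hV
  obtain ⟨R, hR⟩ := (S.2.map H.subtype).exists_le_sylow
  -- a Sylow subgroup of `G` inside `H`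
  have hs2 : s ≠ 2 := by
    intro h
    obtain ⟨x, hx, hx1⟩ : ∃ x ∈ Cfsg.pCore s H, x ≠ 1 :=
      (Subgroup.ne_bot_iff_exists_ne_one.1 hne).elim fun x hx => ⟨x, x.2, fun e => hx (Subtype.ext e)⟩
    obtain ⟨k, hk⟩ := CfsgLib.Coprime.pCore_isPGroup (G := H) s ⟨x, hx⟩
    refine hx1 (CfsgLib.Invol.eq_one_of_odd_of_pow_two (k := k)
      (c.ht.odd.of_dvd_nat (orderOf_dvd_natCard x)) ?_)
    have : x ^ s ^ k = 1 := congrArg Subtype.val hk
    rw [← h]
    exact this
  have hcard : Nat.card ((S : Subgroup H).map H.subtype) = Nat.card R := by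
    rw [card_map_of_injective H.subtype_injective, S.card_eq_multiplicity, R.card_eq_multiplicity,
      ← c.ht.card_mul, Nat.factorization_mul Nat.card_pos.ne' Nat.card_pos.ne']
    obtain ⟨k, hk⟩ := (haveI : Fact (Nat.Prime 2) := ⟨Nat.prime_two⟩; c.ht.two.exists_card_eq)
    have h0 : (Nat.card T).factorization s = 0 := by
      rw [hk, Nat.factorization_pow]
      simp [Nat.Prime.factorization Nat.prime_two, hs2.symm]
    simp [h0]
  have hRS : (S : Subgroup H).map H.subtype = R := Subgroup.eq_of_le_of_card_ge hR hcard.ge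
  have d : VData G H s V R :=
    { prime := hs
      leR := hRS ▸ map_mono (CfsgLib.Coprime.pCore_le_sylow S)
      RleH := hRS ▸ map_subtype_le _
      norm := by
        rintro h hh v ⟨w, hw, rfl⟩
        exact ⟨⟨h, hh⟩ * w * ⟨h, hh⟩⁻¹,
          (CfsgLib.Coprime.pCore_normal' (G := H) s).conj_mem w hw _, rfl⟩
      ne := by
        obtain ⟨x, hx⟩ := Subgroup.ne_bot_iff_exists_ne_one.1 hne
        exact ⟨_, mem_map_of_mem H.subtype x.2,
          fun e => hx (Subtype.ext (Subtype.ext e))⟩ }
  exact c.absurd_conf d

theorem isSolvable_of_ht_aux (n : ℕ) : ∀ {G : Type u} [Group G] [Finite G], Nat.card G ≤ n →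
    Ab G → ∀ {H T : Subgroup G}, HT G H T → Group.IsSolvable G := by
  induction n with
  | zero =>
    intro G _ _ hn
    exact absurd hn (Nat.not_le.2 Nat.card_pos)
  | succ n ih =>
    intro G _ _ hn hA H T hHT
    by_contra hns
    have small : ∀ K : Subgroup G, K ≠ ⊤ → (∃ H' T' : Subgroup K, HT K H' T') →
        Group.IsSolvable K := by
      rintro K hK ⟨H', T', h'⟩
      refine ih ?_ (hA.subgroup K) h'
      have : Nat.card K < Nat.card G := by
        refine lt_of_le_of_ne (Subgroup.card_le_card_group K) fun h => hK ?_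
        exact Subgroup.eq_top_of_card_eq K h
      omega
    have simple : ∀ N : Subgroup G, N.Normal → N ≠ ⊥ → N = ⊤ := by
      intro N hN hN1
      by_contra hN2
      haveI := hN
      haveI : Group.IsSolvable (G ⧸ N) := by
        refine ih ?_ (hA.quotient N) (hHT.quotient N)
        have h1 : 1 < Nat.card N := by
          haveI := (Subgroup.nontrivial_iff_ne_bot N).2 hN1
          exact Finite.one_lt_card
        have h2 := N.card_mul_index
        rw [Subgroup.index_eq_card] at h2
        have h3 : 0 < Nat.card (G ⧸ N) := Nat.card_pos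
        nlinarith
      haveI : Group.IsSolvable N := by
        by_cases hK : N ⊔ T = ⊤
        · -- then `H ≤ N`
          have hHN : ∀ a ∈ H, a ∈ N := by
            intro a ha
            obtain ⟨x, hx, t, ht, e⟩ := Subgroup.mem_sup_of_normal_left.1
              (hK.symm ▸ mem_top a : a ∈ N ⊔ T)
            have h1 : (QuotientGroup.mk' N a) ∈ T.map (QuotientGroup.mk' N) := by
              refine ⟨t, ht, ?_⟩
              rw [← e, map_mul, (QuotientGroup.eq_one_iff x).2 hx |> fun h => (h :
                QuotientGroup.mk' N x = 1), one_mul]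
            have h2 := (hHT.quotient N).disj h1 (mem_map_of_mem _ ha)
            exact (QuotientGroup.eq_one_iff a).1 h2
          refine small N hN2 ⟨H.subgroupOf N, T.subgroupOf N,
            { two := hHT.two.comap_of_injective _ N.subtype_injective
              odd := hHT.odd.of_dvd_nat
                (Subgroup.card_comap_dvd_of_injective _ _ N.subtype_injective)
              cover := fun g => ?_ }⟩
          obtain ⟨t, ht, a, ha, e⟩ := hHT.cover g
          have htN : t ∈ N := by
            have : t = g * a⁻¹ := by rw [e, mul_inv_cancel_right]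
            rw [this]
            exact mul_mem g.2 (inv_mem (hHN a ha))
          exact ⟨⟨t, htN⟩, mem_subgroupOf.2 ht, ⟨a, hHN a ha⟩, mem_subgroupOf.2 ha, Subtype.ext e⟩
        · haveI := small _ hK ⟨_, _, hHT.subgroup le_sup_right⟩
          exact Group.isSolvable_of_isSolvable_injective
            (f := Subgroup.inclusion (le_sup_left : N ≤ N ⊔ T)) (Subgroup.inclusion_injective _)
      exact hns (Group.isSolvable_of_ker_le_range N.subtype (QuotientGroup.mk' N)
        (by rw [QuotientGroup.ker_mk', Subgroup.range_subtype]))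
    exact Conf.false' ⟨hA, hHT, hns, simple, small⟩

/-- A finite group with abelian Sylow subgroups, a product of a 2-group and a subgroup of odd
order, is solvable. -/
theorem isSolvable_of_ht {G : Type u} [Group G] [Finite G] (hA : Ab G) {H T : Subgroup G}
    (h : HT G H T) : Group.IsSolvable G :=
  isSolvable_of_ht_aux _ le_rfl hA h

end CfsgLib.AGroupHT
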