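import Cfsg.Agent.Lib.PGroup.AGroupHT.Main
import Cfsg.Agent.Lib.PGroup.Kazarin

/-!
A finite group with abelian Sylow subgroups having an element whose class size is the largest
2-part of a class size, and a power of 2, is solvable.
-/

set_option autoImplicit false
set_option linter.style.haveILetI false
set_option linter.unusedSectionVars false

namespace CfsgLib.AGroupHT

open Subgroup

universe u

variable {G : Type u} [Group G] [Finite G]

theorem exists_prime_pow_ne_one {P : Subgroup G} (hP : P ≠ ⊥) :
    ∃ x ∈ P, x ≠ 1 := by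
  obtain ⟨x, hx⟩ := Subgroup.ne_bot_iff_exists_ne_one.1 hP
  exact ⟨x, x.2, fun e => hx (Subtype.ext e)⟩

/-- A perfect group with abelian Sylow subgroups has trivial centre. -/
theorem center_eq_bot_of_perfect (hA : Ab G) (hperf : commutator G = ⊤) : center G = ⊥ := by
  by_contra hne
  haveI := (Subgroup.nontrivial_iff_ne_bot _).2 hne
  obtain ⟨p, hp, hdvd⟩ := Nat.exists_prime_and_dvd
    (Finite.one_lt_card (α := center G)).ne'
  haveI := Fact.mk hp
  obtain ⟨x, hx⟩ := exists_prime_orderOf_dvd_card' (G := center G) p hdvd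
  have hxo : orderOf (x : G) = p := by rwa [Subgroup.orderOf_coe]
  have hxp : IsPGroup p (zpowers (x : G)) := IsPGroup.of_card (n := 1) (by
    rw [Nat.card_zpowers, hxo, pow_one])
  obtain ⟨R, hR⟩ := hxp.exists_le_sylow
  haveI := hA.isMulCommutative hp R.2
  have hcop : Nat.Coprime (Nat.card (R : Subgroup G)) (R : Subgroup G).index := R.card_coprime_index
  have h1 := CfsgLib.Fusion.central_inf_commutator_eq_one (R : Subgroup G) hcop x.2
    (hperf ▸ mem_top _) (hR (mem_zpowers _))
  exact hp.one_lt.ne' (by rw [← hxo, h1, orderOf_one])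

/-- If every class has odd size then a Sylow 2-subgroup is central. -/
theorem exists_even_index (hA : Ab G) (hperf : commutator G = ⊤) [Nontrivial G] :
    ∃ y : G, 2 ∣ (centralizer ({y} : Set G)).index := by
  classical
  by_contra h
  push Not at h
  haveI : Fact (Nat.Prime 2) := ⟨Nat.prime_two⟩
  obtain ⟨S⟩ : Nonempty (Sylow 2 G) := inferInstance
  set C := centralizer ((S : Subgroup G) : Set G) with hC
  have hcov : ∀ y : G, ∃ g : G, g * y * g⁻¹ ∈ C := by
    intro y
    obtain ⟨Q⟩ : Nonempty (Sylow 2 (centralizer ({y} : Set G))) := inferInstance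
    obtain ⟨g, hg⟩ := CfsgLib.Invol.exists_conj_le_sylow (Q.2.map (Subgroup.subtype _)) S
    refine ⟨g, ?_⟩
    set Q' := (Q : Subgroup (centralizer ({y} : Set G))).map (Subgroup.subtype _) with hQ'
    have hle : Q'.map (MulAut.conj g).toMonoidHom ≤ S := by
      rintro _ ⟨q, hq, rfl⟩
      exact hg q hq
    have hcardQ : Nat.card (Q'.map (MulAut.conj g).toMonoidHom) = Nat.card S := by
      rw [card_map_of_injective (MulAut.conj g).injective, hQ',
        card_map_of_injective (Subgroup.subtype_injective _), Q.card_eq_multiplicity,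
        S.card_eq_multiplicity, ← (centralizer ({y} : Set G)).card_mul_index,
        Nat.factorization_mul Nat.card_pos.ne' Subgroup.index_ne_zero_of_finite]
      simp [Nat.factorization_eq_zero_of_not_dvd (h y)]
    have heq := Subgroup.eq_of_le_of_card_ge hle hcardQ.ge
    rw [hC, mem_centralizer_iff]
    intro s hs
    obtain ⟨q, hq, rfl⟩ := heq.symm ▸ hs
    have hqy := mem_centralizer_singleton_iff.1 (map_subtype_le _ hq)
    show g * q * g⁻¹ * (g * y * g⁻¹) = g * y * g⁻¹ * (g * q * g⁻¹)
    calc g * q * g⁻¹ * (g * y * g⁻¹) = g * (q * y) * g⁻¹ := by group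
      _ = g * (y * q) * g⁻¹ := by rw [hqy]
      _ = g * y * g⁻¹ * (g * q * g⁻¹) := by group
  -- by Jordan, `C` is everything
  have hCtop : C = ⊤ := by
    by_contra hne
    haveI := Fintype.ofFinite G
    haveI hN : 1 < C.index := by
      have h0 : C.index ≠ 0 := Subgroup.index_ne_zero_of_finite
      have h1 : C.index ≠ 1 := fun e => hne (Subgroup.index_eq_one.1 e)
      omega
    -- count the conjugates
    let f : Option ((G ⧸ C) × {x : C // x ≠ 1}) → G := fun o =>
      o.elim 1 fun p => p.1.out * ((p.2.1 : C) : G) * p.1.out⁻¹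
    have hsurj : Function.Surjective f := by
      intro y
      obtain ⟨g, hg⟩ := hcov y
      by_cases hy : y = 1
      · exact ⟨none, hy.symm⟩
      set q : G ⧸ C := ((g⁻¹ : G) : G ⧸ C) with hq
      have hmem : q.out⁻¹ * g⁻¹ ∈ C := by
        rw [← QuotientGroup.eq, QuotientGroup.out_eq']
      have hz : q.out⁻¹ * y * q.out ∈ C := by
        have := mul_mem (mul_mem hmem hg) (inv_mem hmem)
        rwa [show q.out⁻¹ * g⁻¹ * (g * y * g⁻¹) * (q.out⁻¹ * g⁻¹)⁻¹ = q.out⁻¹ * y * q.out by group]
          at this
      refine ⟨some (q, ⟨⟨_, hz⟩, fun e => hy ?_⟩), ?_⟩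
      · have e' : q.out⁻¹ * y * q.out = 1 := congrArg Subtype.val e
        have := congrArg (fun w => q.out * w * q.out⁻¹) e'
        simp only [mul_one, mul_inv_cancel] at this
        rwa [show q.out * (q.out⁻¹ * y * q.out) * q.out⁻¹ = y by group] at this
      · show q.out * (q.out⁻¹ * y * q.out) * q.out⁻¹ = y
        group
    have h1 := Nat.card_le_card_of_surjective f hsurj
    rw [Finite.card_option, Nat.card_prod, ← Subgroup.index_eq_card] at h1
    have h2 : Nat.card {x : C // x ≠ 1} = Nat.card C - 1 := by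
      haveI := Fintype.ofFinite C
      simp [Nat.card_eq_fintype_card, Fintype.card_subtype_compl]
    rw [h2] at h1
    have h3 := C.card_mul_index
    have h4 : 0 < Nat.card C := Nat.card_pos
    obtain ⟨k, hk⟩ := Nat.exists_eq_add_of_le (show 1 ≤ Nat.card C from h4)
    rw [hk] at h1 h3
    rw [Nat.add_sub_cancel_left] at h1
    nlinarith
  have hScen : (S : Subgroup G) ≤ center G := by
    intro s hs
    refine mem_center_iff.2 fun g => ?_
    exact (mem_centralizer_iff.1 (hCtop ▸ mem_top g : g ∈ C) s hs).symm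
  rw [center_eq_bot_of_perfect hA hperf, le_bot_iff] at hScen
  have hodd : Odd (Nat.card G) := by
    rw [← Nat.not_even_iff_odd, even_iff_two_dvd]
    intro hd
    exact S.ne_bot_of_dvd_card hd hScen
  haveI := CfsgLib.FT.isSolvable_of_odd G hodd
  exact (Group.IsSolvable.commutator_lt_top_of_nontrivial (G := G)).ne hperf

/-- The iterated derived group stabilises. -/
theorem exists_derived_stable : ∃ n : ℕ,
    ⁅derivedSeries G n, derivedSeries G n⁆ = derivedSeries G n := by
  classical
  obtain ⟨n, -, hn⟩ : ∃ n, n ≤ Nat.card G ∧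
      Nat.card (derivedSeries G (n + 1)) = Nat.card (derivedSeries G n) := by
    by_contra h
    push Not at h
    have hdec : ∀ n, n ≤ Nat.card G + 1 → Nat.card (derivedSeries G n) + n ≤ Nat.card G := by
      intro n
      induction n with
      | zero =>
        intro _
        simpa using Subgroup.card_le_card_group (derivedSeries G 0)
      | succ n ih =>
        intro hn
        have h1 := ih (by omega)
        have h2 := Subgroup.card_le_of_le (derivedSeries_antitone G (Nat.le_succ n))
        have h3 := h n (by omega)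
        simp only [Nat.succ_eq_add_one] at h2
        omega
    have := hdec (Nat.card G + 1) le_rfl
    omega
  refine ⟨n, ?_⟩
  rw [← derivedSeries_succ]
  exact Subgroup.eq_of_le_of_card_ge (derivedSeries_antitone G (Nat.le_succ n)) hn.ge

theorem isSolvable_of_max_two_part (hA : Ab G) {a : ℕ}
    (hmax : ∀ y : G, ¬ 2 ^ (a + 1) ∣ (centralizer ({y} : Set G)).index) {x : G}
    (hx : (centralizer ({x} : Set G)).index = 2 ^ a) : Group.IsSolvable G := by
  classical
  by_contra hns
  haveI : Fact (Nat.Prime 2) := ⟨Nat.prime_two⟩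
  set C := centralizer ({x} : Set G) with hC
  -- `G = T C`
  obtain ⟨Q⟩ : Nonempty (Sylow 2 C) := inferInstance
  obtain ⟨S, hS⟩ := (Q.2.map C.subtype).exists_le_sylow
  set T₀ : Subgroup G := (Q : Subgroup C).map C.subtype with hT0
  have hcov : ∀ g : G, ∃ t ∈ (S : Subgroup G), ∃ c ∈ C, g = t * c := by
    have hTC : C.relIndex (S : Subgroup G) = C.index := by
      have hinf : ((S : Subgroup G) ⊓ C) = T₀ := by
        refine le_antisymm ?_ (le_inf hS (map_subtype_le _))
        intro t ht
        have h1 : (Q : Subgroup C) ≤ (S : Subgroup G).subgroupOf C := fun q hq =>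
          mem_subgroupOf.2 (hS (mem_map_of_mem C.subtype hq))
        have h2 := Q.3 (S.2.comap_of_injective _ C.subtype_injective) h1
        exact ⟨⟨t, ht.2⟩, h2 ▸ mem_subgroupOf.2 ht.1, rfl⟩
      have h3 : Nat.card T₀ * C.relIndex (S : Subgroup G) = Nat.card S := by
        rw [← hinf, ← (C.subgroupOf (S : Subgroup G)).card_mul_index]
        congr 1
        rw [← inf_subgroupOf_left]
        exact (Nat.card_congr (Subgroup.subgroupOfEquivOfLe inf_le_left).toEquiv).symm
      have h4 : Nat.card T₀ * C.index = Nat.card S := by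
        rw [hT0, card_map_of_injective C.subtype_injective, Q.card_eq_multiplicity,
          S.card_eq_multiplicity, ← C.card_mul_index,
          Nat.factorization_mul Nat.card_pos.ne' Subgroup.index_ne_zero_of_finite, hx]
        simp [Nat.Prime.factorization_pow Nat.prime_two, pow_add]
      exact Nat.eq_of_mul_eq_mul_left Nat.card_pos (h3.trans h4.symm)
    intro g
    let f : (S : Subgroup G) ⧸ C.subgroupOf (S : Subgroup G) → G ⧸ C :=
      Quotient.map' (fun s => (s : G)) fun a b hab => by
        rw [QuotientGroup.leftRel_apply] at hab ⊢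
        simpa [mem_subgroupOf] using hab
    have hinj : Function.Injective f := by
      intro a b
      induction a using Quotient.inductionOn' with
      | h a =>
        induction b using Quotient.inductionOn' with
        | h b =>
          intro hab
          refine QuotientGroup.eq.2 (mem_subgroupOf.2 ?_)
          simpa using QuotientGroup.eq.1 hab
    have hsurj : Function.Surjective f := ((Nat.bijective_iff_injective_and_card f).2 ⟨hinj, by
      rw [← Subgroup.index_eq_card, ← Subgroup.index_eq_card]; exact hTC⟩).2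
    obtain ⟨q, hq⟩ := hsurj (g : G ⧸ C)
    induction q using Quotient.inductionOn' with
    | h t =>
      refine ⟨t, t.2, (t : G)⁻¹ * g, QuotientGroup.eq.1 hq, ?_⟩
      rw [mul_inv_cancel_left]
  -- the normal closure of `T₀` lies in `C`
  set M : Subgroup G := Subgroup.normalClosure (T₀ : Set G) with hM
  have hMC : M ≤ C := by
    refine (closure_le _).2 ?_
    intro y hy
    obtain ⟨z, hz, hzy⟩ := Group.mem_conjugatesOfSet_iff.1 hy
    obtain ⟨g, rfl⟩ := isConj_iff.1 hzy
    obtain ⟨t, ht, c, hc, e⟩ := hcov g⁻¹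
    have eg : g = c⁻¹ * t⁻¹ := by rw [← mul_inv_rev, ← e, inv_inv]
    have hzS : z ∈ (S : Subgroup G) := hS hz
    have : g * z * g⁻¹ = c⁻¹ * z * c⁻¹⁻¹ := by
      rw [eg, show c⁻¹ * t⁻¹ * z * (c⁻¹ * t⁻¹)⁻¹ = c⁻¹ * (t⁻¹ * z * t⁻¹⁻¹) * c⁻¹⁻¹ by group,
        (hA 2 S Nat.prime_two S.2 _ (inv_mem ht) z hzS).eq, mul_inv_cancel_right]
    rw [this]
    exact mul_mem (mul_mem (inv_mem hc) (map_subtype_le _ hz)) (inv_mem (inv_mem hc))
  haveI : Group.IsSolvable (G ⧸ M) := by
    refine isSolvable_of_ht (hA.quotient M) (H := C.map (QuotientGroup.mk' M))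
      (T := (S : Subgroup G).map (QuotientGroup.mk' M)) ⟨S.2.map _, ?_, fun g => ?_⟩
    · -- the image of `C` has odd order
      let φ : C →* G ⧸ M := (QuotientGroup.mk' M).comp C.subtype
      have hrange : φ.range = C.map (QuotientGroup.mk' M) := by
        rw [MonoidHom.range_comp, Subgroup.range_subtype]
      have hker : (Q : Subgroup C) ≤ φ.ker := fun q hq =>
        (QuotientGroup.eq_one_iff (q : G)).2
          (Subgroup.le_normalClosure (mem_map_of_mem C.subtype hq))
      have h1 : φ.ker.index ∣ (Q : Subgroup C).index := Subgroup.index_dvd_of_le hker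
      rw [Subgroup.index_ker, hrange] at h1
      exact (Nat.not_even_iff_odd.1 fun he => Q.not_dvd_index
        (he.two_dvd.trans h1))
    · obtain ⟨g, rfl⟩ := QuotientGroup.mk'_surjective M g
      obtain ⟨t, ht, c, hc, e⟩ := hcov g
      exact ⟨_, mem_map_of_mem _ ht, _, mem_map_of_mem _ hc, by rw [e, map_mul]⟩
  -- the perfect residual
  obtain ⟨n, hn⟩ := exists_derived_stable (G := G)
  set P := derivedSeries G n with hP
  haveI hPn : P.Normal := derivedSeries_normal G n
  have hP1 : P ≠ ⊥ := fun h => hns ⟨⟨n, h⟩⟩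
  have hPM : P ≤ M := by
    obtain ⟨k, hk⟩ := (inferInstance : Group.IsSolvable (G ⧸ M)).solvable
    have hstable : ∀ j, P ≤ derivedSeries G j := by
      intro j
      induction j with
      | zero => exact le_top
      | succ j ih =>
        rw [derivedSeries_succ, ← hn]
        exact Subgroup.commutator_mono ih ih
    refine (hstable k).trans fun g hg => ?_
    have h1 := map_derivedSeries_le_derivedSeries (QuotientGroup.mk' M) k
      (mem_map_of_mem _ hg)
    rw [hk, mem_bot] at h1
    exact (QuotientGroup.eq_one_iff g).1 h1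
  have hPC : P ≤ C := hPM.trans hMC
  haveI : Nontrivial P := (Subgroup.nontrivial_iff_ne_bot P).2 hP1
  have hperf : commutator P = ⊤ := by
    refine Subgroup.map_injective P.subtype_injective ?_
    rw [map_subtype_commutator, hn, ← MonoidHom.range_eq_map, Subgroup.range_subtype]
  have hZ := center_eq_bot_of_perfect (hA.subgroup P) hperf
  obtain ⟨y, hy⟩ := exists_even_index (hA.subgroup P) hperf
  -- the centraliser of `x y`
  have hcxy : centralizer ({x * (y : G)} : Set G) ≤ C ⊓ centralizer ({(y : G)} : Set G) := by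
    intro g hg
    rw [mem_centralizer_singleton_iff] at hg
    have hxc : ∀ p ∈ P, Commute p x := fun p hp => mem_centralizer_singleton_iff.1 (hPC hp)
    set e := x⁻¹ * (g * x * g⁻¹) with he
    have hgxy : g * x * g⁻¹ * (g * y * g⁻¹) = x * y := by
      rw [show g * x * g⁻¹ * (g * (y : G) * g⁻¹) = g * (x * y) * g⁻¹ by group, hg,
        mul_inv_cancel_right]
    have heP : e ∈ P := by
      have : e = (y : G) * (g * y * g⁻¹)⁻¹ := by
        rw [he, eq_mul_inv_iff_mul_eq, mul_assoc, hgxy, inv_mul_cancel_left]
      rw [this]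
      exact mul_mem y.2 (inv_mem (hPn.conj_mem _ y.2 g))
    have hec : ∀ p ∈ P, Commute p e := by
      intro p hp
      refine Commute.mul_right (Commute.inv_right (hxc p hp)) ?_
      have h1 := hxc _ (hPn.conj_mem p hp g⁻¹)
      rw [inv_inv] at h1
      show p * (g * x * g⁻¹) = g * x * g⁻¹ * p
      calc p * (g * x * g⁻¹) = g * (g⁻¹ * p * g * x) * g⁻¹ := by group
        _ = g * (x * (g⁻¹ * p * g)) * g⁻¹ := by rw [h1.eq]
        _ = g * x * g⁻¹ * p := by group
    have he1 : e = 1 := by
      have hmem : (⟨e, heP⟩ : P) ∈ center P :=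
        mem_center_iff.2 fun p => Subtype.ext (hec p p.2)
      rw [hZ, mem_bot] at hmem
      exact congrArg Subtype.val hmem
    have hgx : g * x * g⁻¹ = x := by
      rw [he, inv_mul_eq_one] at he1
      exact he1.symm
    have hgy : g * y * g⁻¹ = (y : G) := by
      rw [hgx] at hgxy
      exact mul_left_cancel hgxy
    exact Subgroup.mem_inf.2 ⟨mem_centralizer_singleton_iff.2 (mul_inv_eq_iff_eq_mul.1 hgx),
      mem_centralizer_singleton_iff.2 (mul_inv_eq_iff_eq_mul.1 hgy)⟩
  refine hmax (x * y) (dvd_trans ?_ (Subgroup.index_dvd_of_le hcxy))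
  have h5 := Subgroup.relIndex_mul_index (inf_le_left : C ⊓ centralizer ({(y : G)} : Set G) ≤ C)
  rw [← h5, pow_succ, mul_comm, hx]
  refine mul_dvd_mul_right ?_ _
  rw [Subgroup.inf_relIndex_left]
  refine dvd_trans hy ?_
  rw [CfsgLib.PGroup.index_centralizer_subgroup_dvd P y.2]
  haveI : (P.subgroupOf C).Normal := inferInstance
  have h6 := CfsgLib.PGroup.relIndex_dvd_index_of_normal_right
    ((centralizer ({(y : G)} : Set G)).subgroupOf C) (P.subgroupOf C)
  rwa [Subgroup.relIndex_subgroupOf hPC] at h6

end CfsgLib.AGroupHT
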