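import Cfsg.Agent.Lib.PGroup.AGroupHT.Trans
import Cfsg.Agent.Lib.Coprime.Action

/-!
A normal `s`-subgroup of `H` fixes the base point only.
-/

set_option autoImplicit false
set_option linter.style.haveILetI false
set_option linter.unusedSectionVars false

namespace CfsgLib.AGroupHT

open Subgroup

universe u

/-- A normal `s`-subgroup `V` of `H` inside an abelian Sylow `s`-subgroup `R ≤ H` of `G`. -/
structure VData (G : Type u) [Group G] (H : Subgroup G) (s : ℕ) (V : Subgroup G) (R : Sylow s G) :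
    Prop where
  prime : s.Prime
  leR : V ≤ R
  RleH : (R : Subgroup G) ≤ H
  norm : ∀ h ∈ H, ∀ v ∈ V, h * v * h⁻¹ ∈ V
  ne : ∃ v ∈ V, v ≠ 1

namespace Conf

variable {G : Type u} [Group G] [Finite G] {H T V : Subgroup G} {s : ℕ} {R : Sylow s G}

theorem R_comm (c : Conf G H T) (d : VData G H s V R) {a b : G} (ha : a ∈ (R : Subgroup G))
    (hb : b ∈ (R : Subgroup G)) : Commute a b :=
  c.ab s R d.prime R.2 a ha b hb

/-- `R` fixes the base point only. -/
theorem R_fix (c : Conf G H T) (d : VData G H s V R) {x : G}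
    (h : ∀ r ∈ (R : Subgroup G), x⁻¹ * r * x ∈ H) : x ∈ H := by
  by_contra hx
  obtain ⟨v, hv, hv1⟩ := d.ne
  refine hv1 (c.eq_one_of_conj_mem c.H_ne_top fun g => ?_)
  by_cases hg : g ∈ H
  · exact d.RleH (d.leR (d.norm g hg v hv))
  obtain ⟨z, hz, oz⟩ := c.exists_invol
  obtain ⟨h1, hh1, e1⟩ := c.two_trans hz oz hx
  obtain ⟨h2, hh2, e2⟩ := c.two_trans hz oz (g := g⁻¹) (fun h => hg (by simpa using inv_mem h))
  set p := z⁻¹ * (h1⁻¹ * x) with hp
  set q := z⁻¹ * (h2⁻¹ * g⁻¹) with hq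
  set v' := (h1 * h2⁻¹) * v * (h1 * h2⁻¹)⁻¹ with hv'
  have hv'V : v' ∈ V := d.norm _ (mul_mem hh1 (inv_mem hh2)) v hv
  have key : g * v * g⁻¹ = q⁻¹ * p * (x⁻¹ * v' * x) * (q⁻¹ * p)⁻¹ := by
    rw [hv', hp, hq]
    group
  rw [key]
  exact mul_mem (mul_mem (mul_mem (inv_mem e2) e1) (h v' (d.leR hv'V)))
    (inv_mem (mul_mem (inv_mem e2) e1))

theorem N_le (c : Conf G H T) (d : VData G H s V R) {n : G}
    (hn : n ∈ normalizer ((R : Subgroup G) : Set G)) : n ∈ H := by
  refine c.R_fix d fun r hr => d.RleH ?_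
  simpa using (Subgroup.mem_normalizer_iff.1 (inv_mem hn) r).1 hr

/-- `V` is strongly closed in `H`. -/
theorem closed (c : Conf G H T) (d : VData G H s V R) {a g : G} (ha : a ∈ V)
    (hg : g⁻¹ * a * g ∈ H) : g⁻¹ * a * g ∈ V := by
  haveI := Fact.mk d.prime
  set b := g⁻¹ * a * g with hb
  obtain ⟨k, hk⟩ := R.2 ⟨a, d.leR ha⟩
  have hk' : a ^ s ^ k = 1 := congrArg Subtype.val hk
  have hbk : b ^ s ^ k = 1 := by
    have : b = g⁻¹ * a * g⁻¹⁻¹ := by rw [inv_inv]
    rw [this, conj_pow, hk', mul_one, mul_inv_cancel]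
  have hRH : IsPGroup s ((R : Subgroup G).subgroupOf H) := R.2.comap_of_injective _ H.subtype_injective
  obtain ⟨S, hS⟩ := hRH.exists_le_sylow
  have hSR : (S : Subgroup H) ≤ (R : Subgroup G).subgroupOf H := by
    have hRS : (R : Subgroup G) ≤ (S : Subgroup H).map H.subtype := fun r hr =>
      ⟨⟨r, d.RleH hr⟩, hS (mem_subgroupOf.2 hr), rfl⟩
    have e := R.3 (S.2.map H.subtype) hRS
    intro y hy
    exact mem_subgroupOf.2 (e ▸ mem_map_of_mem H.subtype hy)
  have hbp : IsPGroup s (zpowers (⟨b, hg⟩ : H)) := by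
    rintro ⟨y, hy⟩
    obtain ⟨i, rfl⟩ := mem_zpowers_iff.1 hy
    refine ⟨k, Subtype.ext (Subtype.ext ?_)⟩
    show (b ^ i) ^ s ^ k = 1
    rw [← zpow_natCast, ← zpow_mul, mul_comm, zpow_mul, zpow_natCast, hbk, one_zpow]
  obtain ⟨h, hh⟩ := CfsgLib.Invol.exists_conj_le_sylow hbp S
  have hbR : (h : G) * b * (h : G)⁻¹ ∈ (R : Subgroup G) :=
    mem_subgroupOf.1 (hSR (hh _ (mem_zpowers _)))
  haveI := c.ab.isMulCommutative d.prime R.2
  have hy : (g * (h : G)⁻¹)⁻¹ * a * (g * (h : G)⁻¹) ∈ (R : Subgroup G) := by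
    rwa [show (g * (h : G)⁻¹)⁻¹ * a * (g * (h : G)⁻¹) = (h : G) * b * (h : G)⁻¹ by rw [hb]; group]
  obtain ⟨n, hn, e⟩ := R.conj_eq_normalizer_conj_of_mem a (g * (h : G)⁻¹) (d.leR ha) hy
  have hnH : (h : G)⁻¹ * n⁻¹ ∈ H := mul_mem (inv_mem h.2) (inv_mem (c.N_le d hn))
  have hconc := d.norm _ hnH a ha
  have eb : b = (h : G)⁻¹ * n⁻¹ * a * ((h : G)⁻¹ * n⁻¹)⁻¹ := by
    calc b = (h : G)⁻¹ * ((g * (h : G)⁻¹)⁻¹ * a * (g * (h : G)⁻¹)) * h := by rw [hb]; group
      _ = (h : G)⁻¹ * (n⁻¹ * a * n) * h := by rw [e]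
      _ = (h : G)⁻¹ * n⁻¹ * a * ((h : G)⁻¹ * n⁻¹)⁻¹ := by group
  rwa [eb]

/-- The fixed points of an element of `V` are permuted transitively by its centraliser. -/
theorem fix_trans (c : Conf G H T) (d : VData G H s V R) {a x : G} (ha : a ∈ V)
    (hx : x⁻¹ * a * x ∈ H) : ∃ g ∈ centralizer ({a} : Set G), g⁻¹ * x ∈ H := by
  haveI := Fact.mk d.prime
  have hb := c.closed d ha hx
  set C := centralizer ({a} : Set G) with hC
  have h1 : (R : Subgroup G) ≤ C := fun r hr =>
    mem_centralizer_singleton_iff.2 (c.R_comm d hr (d.leR ha)).eq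
  have h2 : (R : Subgroup G).map (MulAut.conj x).toMonoidHom ≤ C := by
    rintro _ ⟨r, hr, rfl⟩
    refine mem_centralizer_singleton_iff.2 ?_
    show x * r * x⁻¹ * a = a * (x * r * x⁻¹)
    calc x * r * x⁻¹ * a = x * (r * (x⁻¹ * a * x)) * x⁻¹ := by group
      _ = x * (x⁻¹ * a * x * r) * x⁻¹ := by rw [(c.R_comm d hr (d.leR hb)).eq]
      _ = a * (x * r * x⁻¹) := by group
  obtain ⟨P, hP⟩ : ∃ P : Sylow s C, (P : Subgroup C) = (R : Subgroup G).subgroupOf C :=
    ⟨R.subtype h1, rfl⟩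
  have hQ : IsPGroup s (((R : Subgroup G).map (MulAut.conj x).toMonoidHom).subgroupOf C) :=
    (R.2.map _).comap_of_injective _ C.subtype_injective
  obtain ⟨g, hg⟩ := CfsgLib.Invol.exists_conj_le_sylow hQ P
  refine ⟨(g : G)⁻¹, inv_mem g.2, ?_⟩
  rw [inv_inv]
  refine c.N_le d ?_
  have hsub : ∀ r ∈ (R : Subgroup G), ((g : G) * x) * r * ((g : G) * x)⁻¹ ∈ (R : Subgroup G) := by
    intro r hr
    have h3' : g * ⟨x * r * x⁻¹, h2 ⟨r, hr, rfl⟩⟩ * g⁻¹ ∈ (P : Subgroup C) :=
      hg ⟨x * r * x⁻¹, h2 ⟨r, hr, rfl⟩⟩ (mem_subgroupOf.2 ⟨r, hr, rfl⟩)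
    rw [hP] at h3'
    have h3 := mem_subgroupOf.1 h3'
    have h4 : (g : G) * (x * r * x⁻¹) * (g : G)⁻¹ ∈ (R : Subgroup G) := h3
    rwa [show ((g : G) * x) * r * ((g : G) * x)⁻¹ = (g : G) * (x * r * x⁻¹) * (g : G)⁻¹ by group]
  exact mem_normalizer_of_conj_le hsub

/-- An element fixing two points, with an involution of `T` centralising it, is impossible. -/
theorem false_of_invol_cent (c : Conf G H T) (d : VData G H s V R) {a u : G}
    (ha : a ∈ V) (ha1 : a ≠ 1) (hu : u ∈ T) (ou : orderOf u = 2) (hau : Commute a u) : False := by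
  classical
  haveI : Fact (Nat.Prime 2) := ⟨Nat.prime_two⟩
  have haH : a ∈ H := d.RleH (d.leR ha)
  have haN : a ∈ normalizer (T : Set G) := c.cent_le hu ou (mem_centralizer_singleton_iff.2 hau.eq)
  set C := centralizer ({a} : Set G) with hC
  have hCtop : C ≠ ⊤ := by
    intro h
    have hac : a ∈ center G := mem_center_iff.2 fun g =>
      (mem_centralizer_singleton_iff.1 (h ▸ mem_top g : g ∈ C))
    rw [c.center_eq_bot, mem_bot] at hac
    exact ha1 hac
  have hcov : ∀ g ∈ C, ∃ t ∈ T, t ∈ C ∧ ∃ b ∈ H, b ∈ C ∧ g = t * b := by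
    intro g hg
    obtain ⟨t, ht, b, hb, e⟩ := c.ht.cover g
    have hga : g⁻¹ * a * g = a := by
      rw [mul_assoc, ← mem_centralizer_singleton_iff.1 hg, inv_mul_cancel_left]
    have htC : t ∈ C := by
      have h1 : t⁻¹ * a * t ∈ H := by
        have : t⁻¹ * a * t = b * (g⁻¹ * a * g) * b⁻¹ := by rw [e]; group
        rw [this, hga]
        exact mul_mem (mul_mem hb haH) (inv_mem hb)
      have h2 : a⁻¹ * t⁻¹ * a * t = 1 := by
        refine c.ht.disj ?_ (by
          rw [show a⁻¹ * t⁻¹ * a * t = a⁻¹ * (t⁻¹ * a * t) by group]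
          exact mul_mem (inv_mem haH) h1)
        refine mul_mem ?_ ht
        simpa using (Subgroup.mem_normalizer_iff.1 (inv_mem haN) t⁻¹).1 (inv_mem ht)
      refine mem_centralizer_singleton_iff.2 ?_
      calc t * a = t * a * (a⁻¹ * t⁻¹ * a * t) := by rw [h2, mul_one]
        _ = a * t := by group
    refine ⟨t, ht, htC, b, hb, ?_, e⟩
    have : b = t⁻¹ * g := by rw [e, inv_mul_cancel_left]
    rw [this]
    exact mul_mem (inv_mem htC) hg
  haveI hsol : Group.IsSolvable C := c.small C hCtop ⟨H.subgroupOf C, T.subgroupOf C,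
    { two := c.ht.two.comap_of_injective _ C.subtype_injective
      odd := c.ht.odd.of_dvd_nat (Subgroup.card_comap_dvd_of_injective _ _ C.subtype_injective)
      cover := fun g => by
        obtain ⟨t, ht, htC, b, hb, hbC, e⟩ := hcov g g.2
        exact ⟨⟨t, htC⟩, mem_subgroupOf.2 ht, ⟨b, hbC⟩, mem_subgroupOf.2 hb, Subtype.ext e⟩ }⟩
  haveI := CfsgLib.Coprime.pPrimeCore_characteristic (G := C) 2
  set N' : Subgroup C := Cfsg.pPrimeCore 2 C with hN'
  set N : Subgroup G := N'.map C.subtype with hN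
  have hn : ∀ k ∈ C, ∀ x ∈ N, k * x * k⁻¹ ∈ N := by
    rintro k hk x ⟨y, hy, rfl⟩
    exact ⟨⟨k, hk⟩ * y * ⟨k, hk⟩⁻¹, (inferInstance : N'.Normal).conj_mem y hy _, rfl⟩
  have hNodd : Odd (Nat.card N) := by
    rw [hN, card_map_of_injective C.subtype_injective]
    exact Nat.coprime_two_right.1 (CfsgLib.Coprime.pPrimeCore_coprime Nat.prime_two)
  have hNH : N ≤ H := c.odd_normal_le (map_subtype_le _) hn hNodd hcov
  -- the Sylow 2-subgroup of `C` is `T ⊓ C`
  set T' : Subgroup C := T.subgroupOf C with hT'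
  obtain ⟨P, hP⟩ : ∃ P : Sylow 2 C, (P : Subgroup C) = T' := by
    refine HT.exists_sylow (H := H.subgroupOf C)
      ⟨c.ht.two.comap_of_injective _ C.subtype_injective,
        c.ht.odd.of_dvd_nat (Subgroup.card_comap_dvd_of_injective _ _ C.subtype_injective),
        fun g => ?_⟩
    obtain ⟨t, ht, htC, b, hb, hbC, e⟩ := hcov g g.2
    exact ⟨⟨t, htC⟩, mem_subgroupOf.2 ht, ⟨b, hbC⟩, mem_subgroupOf.2 hb, Subtype.ext e⟩
  have hnor : (T' ⊔ N').Normal := by
    have h := CfsgLib.Coprime.sylow_sup_pPrimeCore_normal P (c.ab.subgroup C |>.isMulCommutative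
      Nat.prime_two P.2)
    rwa [hP] at h
  haveI := hnor
  -- `C` is `N` times the normaliser of `T'`
  have hfrat : ∀ g : C, ∃ n ∈ N', ∃ m ∈ normalizer (T' : Set C), g = n * m := by
    intro g
    have hT'le : (P : Subgroup C) ≤ T' ⊔ N' := hP ▸ le_sup_left
    have htop := P.normalizer_sup_eq_top' hT'le
    have hPset : ((P : Subgroup C) : Set C) = (T' : Set C) := congrArg SetLike.coe hP
    change normalizer ((P : Subgroup C) : Set C) ⊔ (T' ⊔ N') = ⊤ at htop
    rw [hPset] at htop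
    obtain ⟨m, hm, k, hk, e⟩ := Subgroup.mem_sup_of_normal_right.1
      (htop.symm ▸ mem_top g : g ∈ normalizer (T' : Set C) ⊔ (T' ⊔ N'))
    obtain ⟨t, ht, n, hn, e'⟩ := Subgroup.mem_sup_of_normal_right.1 hk
    refine ⟨(m * t) * n * (m * t)⁻¹, (inferInstance : N'.Normal).conj_mem n hn _, m * t,
      mul_mem hm (le_normalizer ht), ?_⟩
    rw [inv_mul_cancel_right, ← e, ← e', mul_assoc]
  have huC : u ∈ C := mem_centralizer_singleton_iff.2 hau.symm.eq
  have hmN : ∀ m : C, m ∈ normalizer (T' : Set C) → (m : G) ∈ normalizer (T : Set G) := by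
    intro m hm
    refine c.ti hu ?_ (CfsgLib.Invol.invol_ne_one ou)
    exact mem_subgroupOf.1 ((Subgroup.mem_normalizer_iff.1 hm ⟨u, huC⟩).1 (mem_subgroupOf.2 hu))
  by_cases h2 : ∃ w ∈ T, w ∈ C ∧ orderOf w = 2 ∧ w ≠ u
  · -- noncyclic: everything normalises `T`
    obtain ⟨w, hw, hwC, ow, hwu⟩ := h2
    set A : Subgroup G := closure ({u, w} : Set G) with hA
    have hAT : A ≤ T := (closure_le T).2 (by
      rintro y (rfl | rfl)
      · exact hu
      · exact hw)
    have hAC : A ≤ C := (closure_le C).2 (by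
      rintro y (rfl | rfl)
      · exact huC
      · exact hwC)
    haveI hAcomm : IsMulCommutative A :=
      ⟨⟨fun x y => Subtype.ext (c.T_comm (hAT x.2) (hAT y.2)).eq⟩⟩
    have hAsq : ∀ y ∈ A, y * y = 1 := by
      intro y hy
      induction hy using Subgroup.closure_induction with
      | mem y hy =>
        rcases hy with rfl | rfl
        · exact CfsgLib.Invol.invol_mul_self ou
        · exact CfsgLib.Invol.invol_mul_self ow
      | one => exact one_mul 1
      | mul x y hx hy ihx ihy =>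
        rw [show x * y * (x * y) = x * (y * x) * y by group,
          (c.T_comm (hAT hy) (hAT hx)).eq, show x * (x * y) * y = x * x * (y * y) by group,
          ihx, ihy, one_mul]
      | inv x _ ihx => rw [← mul_inv_rev, ihx, inv_one]
    have hAnc : ¬ IsCyclic A := by
      intro hcyc
      set uA : A := ⟨u, subset_closure (Set.mem_insert _ _)⟩
      set wA : A := ⟨w, subset_closure (Set.mem_insert_of_mem _ rfl)⟩
      obtain ⟨γ, hγ⟩ := hcyc.exists_generator
      have hγ2 : γ * γ = 1 := Subtype.ext (hAsq _ γ.2)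
      have hall : ∀ y : A, y = 1 ∨ y = γ := by
        intro y
        obtain ⟨i, rfl⟩ := mem_zpowers_iff.1 (hγ y)
        rcases Int.even_or_odd i with ⟨j, rfl⟩ | ⟨j, rfl⟩
        · left
          rw [← two_mul, zpow_mul, zpow_two, hγ2, one_zpow]
        · right
          rw [zpow_add_one, zpow_mul, zpow_two, hγ2, one_zpow, one_mul]
      rcases hall uA with h | h
      · exact CfsgLib.Invol.invol_ne_one ou (congrArg Subtype.val h)
      rcases hall wA with h' | h'
      · exact CfsgLib.Invol.invol_ne_one ow (congrArg Subtype.val h')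
      exact hwu (congrArg Subtype.val (h'.trans h.symm))
    have hNle : N ≤ normalizer (T : Set G) := by
      refine CfsgLib.Coprime.le_of_centralizers_le hAnc ?_ ?_ fun y hy hy1 => ?_
      · intro y hy
        rw [Subgroup.mem_normalizer_iff]
        intro x
        refine ⟨fun hx => hn y (hAC hy) x hx, fun hx => ?_⟩
        have := hn y⁻¹ (inv_mem (hAC hy)) _ hx
        rwa [show y⁻¹ * (y * x * y⁻¹) * y⁻¹⁻¹ = x by group] at this
      · obtain ⟨k, hk⟩ := (c.ht.two.to_le hAT).exists_card_eq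
        rw [hk]
        exact (Nat.coprime_two_left.2 hNodd).pow_left k
      · exact inf_le_right.trans (c.cent_le (hAT hy)
          (CfsgLib.Invol.invol_iff.2 ⟨hAsq y hy, hy1⟩))
    have hCle : C ≤ normalizer (T : Set G) := by
      intro g hg
      obtain ⟨n, hn', m, hm, e⟩ := hfrat ⟨g, hg⟩
      have e' : g = (n : G) * m := congrArg Subtype.val e
      rw [e']
      exact mul_mem (hNle (mem_map_of_mem _ hn')) (hmN m hm)
    have hne : normalizer (T : Set G) ≠ ⊤ := by
      intro h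
      haveI : T.Normal := normalizer_eq_top_iff.1 h
      rcases eq_or_ne T ⊥ with hb | hb
      · exact CfsgLib.Invol.invol_ne_one ou (mem_bot.1 (hb ▸ hu))
      · exact c.T_ne_top (c.simple T inferInstance hb)
    obtain ⟨v, hv, hv1⟩ := d.ne
    refine hv1 (c.eq_one_of_conj_mem hne fun g => ?_)
    obtain ⟨t, ht, b, hb, e⟩ := c.ht.cover g
    rw [e, show t * b * v * (t * b)⁻¹ = t * (b * v * b⁻¹) * t⁻¹ by group]
    refine mul_mem (mul_mem (le_normalizer ht) (hCle ?_)) (inv_mem (le_normalizer ht))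
    exact mem_centralizer_singleton_iff.2 (c.R_comm d (d.leR (d.norm b hb v hv)) (d.leR ha)).eq
  · -- a unique involution: `R` fixes its point
    push Not at h2
    refine CfsgLib.Invol.invol_ne_one ou (c.ht.disj hu (c.R_fix d fun r hr => ?_))
    have hrC : r ∈ C := mem_centralizer_singleton_iff.2 (c.R_comm d hr (d.leR ha)).eq
    obtain ⟨n, hn', m, hm, e⟩ := hfrat ⟨r, hrC⟩
    have e' : r = (n : G) * m := congrArg Subtype.val e
    have hmu : Commute (m : G) u := by
      have hmem : (m : G) * u * (m : G)⁻¹ ∈ T :=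
        (Subgroup.mem_normalizer_iff.1 (hmN m hm) u).1 hu
      have := h2 _ hmem (mul_mem (mul_mem m.2 huC) (inv_mem m.2)) (CfsgLib.Invol.invol_conj ou _)
      exact mul_inv_eq_iff_eq_mul.1 this
    have hnN : (n : G) ∈ N := mem_map_of_mem _ hn'
    have hmH : (m : G) ∈ H := by
      have : (m : G) = (n : G)⁻¹ * r := by rw [e', inv_mul_cancel_left]
      rw [this]
      exact mul_mem (inv_mem (hNH hnN)) (d.RleH hr)
    have hun : u⁻¹ * n * u ∈ H := by
      have := hn u⁻¹ (inv_mem huC) _ hnN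
      rw [inv_inv] at this
      exact hNH this
    rw [e', show u⁻¹ * ((n : G) * m) * u = u⁻¹ * n * (m * u) by group, hmu.eq, ← mul_assoc]
    exact mul_mem hun hmH

/-- No nontrivial element of `V` fixes a second point. -/
theorem semireg (c : Conf G H T) (d : VData G H s V R) {a x : G} (ha : a ∈ V)
    (hx : x⁻¹ * a * x ∈ H) (hxH : x ∉ H) : a = 1 := by
  classical
  by_contra ha1
  obtain ⟨z, hz, oz⟩ := c.exists_invol
  have hzz : z * z = 1 := CfsgLib.Invol.invol_mul_self oz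
  have hzi : z⁻¹ = z := CfsgLib.Invol.invol_inv oz
  obtain ⟨h, hh, e⟩ := c.two_trans hz oz hxH
  -- an element fixing the point of `z`
  set a₁ := h⁻¹ * a * h with ha₁
  have ha₁V : a₁ ∈ V := by simpa [ha₁] using d.norm h⁻¹ (inv_mem hh) a ha
  have hza₁ : z * a₁ * z ∈ V := by
    have h1 : z⁻¹ * a₁ * z ∈ H := by
      have : z⁻¹ * a₁ * z = (z⁻¹ * (h⁻¹ * x)) * (x⁻¹ * a * x) * (z⁻¹ * (h⁻¹ * x))⁻¹ := by
        rw [ha₁]; group
      rw [this]
      exact mul_mem (mul_mem e hx) (inv_mem e)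
    have h2 := c.closed d ha₁V h1
    rwa [hzi] at h2
  -- one centralised or inverted by `z`
  obtain ⟨b, hbV, hb1, hbz⟩ : ∃ b ∈ V, b ≠ 1 ∧ (z * b * z = b ∨ z * b * z = b⁻¹) := by
    by_cases hprod : a₁ * (z * a₁ * z) = 1
    · exact ⟨a₁, ha₁V, fun h1 => ha1 (by
        have : a = h * a₁ * h⁻¹ := by rw [ha₁]; group
        rw [this, h1, mul_one, mul_inv_cancel]), Or.inr (eq_inv_of_mul_eq_one_right hprod)⟩
    · refine ⟨_, mul_mem ha₁V hza₁, hprod, Or.inl ?_⟩
      calc z * (a₁ * (z * a₁ * z)) * z = z * a₁ * z * a₁ * (z * z) := by group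
        _ = z * a₁ * z * a₁ := by rw [hzz, mul_one]
        _ = a₁ * (z * a₁ * z) := (c.R_comm d (d.leR hza₁) (d.leR ha₁V)).eq
  set C := centralizer ({b} : Set G) with hC
  have hCn : ∀ g ∈ C, z * g * z ∈ C := by
    intro g hg
    rw [mem_centralizer_singleton_iff] at hg ⊢
    have key : ∀ y : G, g * y = y * g → z * y * z = b →
        z * g * z * b = b * (z * g * z) := by
      intro y hy hyb
      rw [← hyb]
      calc z * g * z * (z * y * z) = z * g * (z * z) * y * z := by group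
        _ = z * (g * y) * z := by rw [hzz]; group
        _ = z * (y * g) * z := by rw [hy]
        _ = z * y * (z * z) * g * z := by rw [hzz]; group
        _ = z * y * z * (z * g * z) := by group
    rcases hbz with h1 | h1
    · exact key b hg h1
    · refine key b⁻¹ (Commute.inv_right hg) ?_
      have := congrArg (fun y => y⁻¹) h1
      simpa [mul_inv_rev, hzi, mul_assoc] using this
  rcases Nat.even_or_odd (Nat.card C) with hev | hodd
  · obtain ⟨u, huC, ou⟩ := CfsgLib.Invol.exists_invol_mem hev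
    obtain ⟨S, hS⟩ := c.ht.exists_sylow
    haveI : Fact (Nat.Prime 2) := ⟨Nat.prime_two⟩
    have hu2 : IsPGroup 2 (zpowers u) := by
      refine IsPGroup.of_card (n := 1) ?_
      rw [Nat.card_zpowers, ou, pow_one]
    obtain ⟨g, hg⟩ := CfsgLib.Invol.exists_conj_le_sylow hu2 S
    obtain ⟨t, ht, k, hk, eg⟩ := c.ht.cover g
    have hgu : g * u * g⁻¹ ∈ T := hS ▸ hg u (mem_zpowers u)
    have hku : k * u * k⁻¹ ∈ T := by
      have : k * u * k⁻¹ = t⁻¹ * (g * u * g⁻¹) * t := by rw [eg]; group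
      rw [this]
      exact mul_mem (mul_mem (inv_mem ht) hgu) ht
    refine c.false_of_invol_cent d (a := k * b * k⁻¹) (d.norm k hk b hbV) ?_ hku
      (CfsgLib.Invol.invol_conj ou k) ?_
    · intro h1
      have h2 := congrArg (fun y => k⁻¹ * y * k) h1
      simp only [mul_one, inv_mul_cancel] at h2
      rw [show k⁻¹ * (k * b * k⁻¹) * k = b by group] at h2
      exact hb1 h2
    · show k * b * k⁻¹ * (k * u * k⁻¹) = k * u * k⁻¹ * (k * b * k⁻¹)
      have hub : u * b = b * u := mem_centralizer_singleton_iff.1 huC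
      calc k * b * k⁻¹ * (k * u * k⁻¹) = k * (b * u) * k⁻¹ := by group
        _ = k * (u * b) * k⁻¹ := by rw [hub]
        _ = k * u * k⁻¹ * (k * b * k⁻¹) := by group
  · -- an odd orbit cannot be inverted without fixed point
    have hbzH : z⁻¹ * b * z ∈ H := by
      rw [hzi]
      rcases hbz with h1 | h1 <;> rw [h1]
      · exact d.RleH (d.leR hbV)
      · exact inv_mem (d.RleH (d.leR hbV))
    obtain ⟨g0, hg0, e0⟩ := c.fix_trans d hbV hbzH
    have horb : Odd (MulAction.orbit C ((1 : G) : G ⧸ H)).ncard := by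
      rw [← MulAction.index_stabilizer]
      exact hodd.of_dvd_nat (Subgroup.index_dvd_card _)
    have hmem : ∀ q : MulAction.orbit C ((1 : G) : G ⧸ H), z • (q : G ⧸ H) ∈
        MulAction.orbit C ((1 : G) : G ⧸ H) := by
      rintro ⟨_, g, rfl⟩
      refine ⟨⟨z * g * z * g0, mul_mem (hCn g g.2) hg0⟩, ?_⟩
      show (z * (g : G) * z * g0) • ((1 : G) : G ⧸ H) = z • ((g : G) • ((1 : G) : G ⧸ H))
      rw [← mul_smul, MulAction.Quotient.smul_coe, MulAction.Quotient.smul_coe, QuotientGroup.eq,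
        smul_eq_mul, smul_eq_mul]
      rwa [show (z * (g : G) * z * g0 * 1)⁻¹ * (z * (g : G) * 1) = g0⁻¹ * z⁻¹ by group, hzi]
    let f : MulAction.orbit C ((1 : G) : G ⧸ H) → MulAction.orbit C ((1 : G) : G ⧸ H) :=
      fun q => ⟨z • (q : G ⧸ H), hmem q⟩
    have hf : Function.Involutive f := fun q => Subtype.ext (by
      show z • z • (q : G ⧸ H) = q
      rw [← mul_smul, hzz, one_smul])
    have hfix : IsEmpty {q // f q = q} := by
      refine ⟨fun q => ?_⟩
      obtain ⟨⟨q, hq⟩, hq'⟩ := q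
      obtain ⟨g, rfl⟩ := hq
      have h1 : z • ((g : G) • ((1 : G) : G ⧸ H)) = (g : G) • ((1 : G) : G ⧸ H) :=
        congrArg Subtype.val hq'
      rw [← mul_smul, MulAction.Quotient.smul_coe, MulAction.Quotient.smul_coe, QuotientGroup.eq,
        smul_eq_mul, smul_eq_mul, mul_one, mul_one] at h1
      have h2 : (g : G)⁻¹ * z * g ∈ H := by
        rwa [mul_inv_rev, hzi] at h1
      refine CfsgLib.Invol.invol_ne_one oz (CfsgLib.Invol.eq_one_of_odd_of_pow_two
        (a := z) ?_ (k := 1) (by rw [pow_one, pow_two, hzz]))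
      have h3 := c.ht.odd.of_dvd_nat (Subgroup.orderOf_dvd_natCard H h2)
      rwa [oz, ← CfsgLib.Invol.invol_conj oz (g : G)⁻¹, inv_inv]
    have hmod := card_invol_modEq hf
    rw [Nat.card_of_isEmpty (α := {q // f q = q}), Nat.card_coe_set_eq] at hmod
    exact Nat.not_even_iff_odd.2 horb (Nat.even_iff.2 hmod)

end Conf

end CfsgLib.AGroupHT
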