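import Cfsg.Agent.Lib.PGroup.AGroupHT.Conf

/-!
Every double coset of `H` other than `H` contains an involution of `T`: by the parity of the
number of squares in a suborbit.
-/

set_option autoImplicit false
set_option linter.style.haveILetI false
set_option linter.unusedSectionVars false

namespace CfsgLib.AGroupHT

open Subgroup

universe u

namespace Conf

variable {G : Type u} [Group G] [Finite G] {H T : Subgroup G}

/-- Membership of a double coset of `H`. -/
def inDC (H : Subgroup G) (g a : G) : Prop := ∃ x ∈ H, ∃ y ∈ H, a = x * g * y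

theorem inDC_mul {g a x y : G} (h : inDC H g a) (hx : x ∈ H) (hy : y ∈ H) :
    inDC H g (x * a * y) := by
  obtain ⟨p, hp, q, hq, rfl⟩ := h
  exact ⟨x * p, mul_mem hx hp, q * y, mul_mem hq hy, by group⟩

/-- The paths of length two in a suborbit from the base point to the point `uH`. -/
def Paths (H T : Subgroup G) (g u : G) : Type u :=
  {a : T // inDC H g (a : G) ∧ inDC H g ((a : G)⁻¹ * u)}

instance instFinitePaths (g u : G) : Finite (Paths H T g u) := Subtype.finite

theorem card_paths_le (c : Conf G H T) (g : G) {u u' h h' : G} (hh : h ∈ H) (hh' : h' ∈ H)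
    (e : u' = h * u * h') : Nat.card (Paths H T g u) ≤ Nat.card (Paths H T g u') := by
  refine Nat.card_le_card_of_injective
    (fun a : Paths H T g u => ⟨⟨c.ht.τ (h * a.1), c.ht.τ_mem _⟩, ?_, ?_⟩) ?_
  · show inDC H g (c.ht.τ (h * a.1))
    have := inDC_mul a.2.1 hh (inv_mem (c.ht.τ_spec (h * a.1)))
    rwa [show h * (a.1 : G) * ((c.ht.τ (h * a.1))⁻¹ * (h * a.1))⁻¹ = c.ht.τ (h * a.1) by group]
      at this
  · show inDC H g ((c.ht.τ (h * a.1))⁻¹ * u')
    have := inDC_mul a.2.2 (c.ht.τ_spec (h * a.1)) hh'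
    rwa [show (c.ht.τ (h * a.1))⁻¹ * (h * a.1) * ((a.1 : G)⁻¹ * u) * h' =
      (c.ht.τ (h * a.1))⁻¹ * u' by rw [e]; group] at this
  · intro a b hab
    have e1 : c.ht.τ (h * a.1) = c.ht.τ (h * b.1) :=
      congrArg (fun z : Paths H T g u' => ((z.1 : T) : G)) hab
    refine Subtype.ext (Subtype.ext (c.ht.disj_eq a.1.2 b.1.2 ?_))
    have := mul_mem (inv_mem (c.ht.τ_spec (h * a.1))) (c.ht.τ_spec (h * b.1))
    rwa [e1, show ((c.ht.τ (h * b.1))⁻¹ * (h * a.1))⁻¹ * ((c.ht.τ (h * b.1))⁻¹ * (h * b.1)) =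
      (a.1 : G)⁻¹ * b.1 by group] at this

theorem card_paths_eq (c : Conf G H T) (g : G) {u u' h h' : G} (hh : h ∈ H) (hh' : h' ∈ H)
    (e : u' = h * u * h') : Nat.card (Paths H T g u) = Nat.card (Paths H T g u') :=
  le_antisymm (c.card_paths_le g hh hh' e)
    (c.card_paths_le g (inv_mem hh) (inv_mem hh') (by rw [e]; group))

/-- The paths to `u` are paired off except the square roots of `u`. -/
theorem card_paths_modEq (c : Conf G H T) (g : G) {u : G} (hu : u ∈ T) :
    Nat.card (Paths H T g u) ≡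
      Nat.card {a : T // inDC H g (a : G) ∧ (a : G) * a = u} [MOD 2] := by
  have hback : ∀ a : T, ((a : G)⁻¹ * u)⁻¹ * u = a := by
    intro a
    rw [mul_inv_rev, inv_inv, mul_assoc, (c.T_comm a.2 hu).eq, inv_mul_cancel_left]
  let f : Paths H T g u → Paths H T g u := fun a =>
    ⟨⟨(a.1 : G)⁻¹ * u, mul_mem (inv_mem a.1.2) hu⟩, a.2.2, by
      show inDC H g (((a.1 : G)⁻¹ * u)⁻¹ * u)
      rw [hback]
      exact a.2.1⟩
  have hf : Function.Involutive f := fun a => Subtype.ext (Subtype.ext (hback a.1))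
  refine (card_invol_modEq hf).trans ?_
  refine congrArg (· % 2) ?_
  refine (Nat.card_congr ?_).symm
  refine
    { toFun := fun a => ⟨⟨a.1, a.2.1, ?_⟩, ?_⟩
      invFun := fun a => ⟨a.1.1, a.1.2.1, ?_⟩
      left_inv := fun a => rfl
      right_inv := fun a => rfl }
  · show inDC H g ((a.1 : G)⁻¹ * u)
    rw [inv_mul_eq_iff_eq_mul.2 a.2.2.symm]
    exact a.2.1
  · refine Subtype.ext (Subtype.ext ?_)
    show (a.1 : G)⁻¹ * u = a.1
    exact inv_mul_eq_iff_eq_mul.2 a.2.2.symm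
  · have e : ((a.1.1 : T) : G)⁻¹ * u = a.1.1 :=
      congrArg (fun z : Paths H T g u => ((z.1 : T) : G)) a.2
    exact (inv_mul_eq_iff_eq_mul.1 e).symm

/-- By primitivity no point other than the base point has an odd number of paths. -/
theorem even_paths (c : Conf G H T) (g : G) {u : G} (hu : u ∈ T) (hu1 : u ≠ 1) :
    Even (Nat.card (Paths H T g u)) := by
  classical
  by_contra hodd
  let P0 : Subgroup G :=
    { carrier := {x | ∃ a ∈ T, x = a * a}
      one_mem' := ⟨1, one_mem T, (mul_one 1).symm⟩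
      mul_mem' := by
        rintro _ _ ⟨a, ha, rfl⟩ ⟨b, hb, rfl⟩
        refine ⟨a * b, mul_mem ha hb, ?_⟩
        rw [show a * b * (a * b) = a * (b * a) * b by group, (c.T_comm hb ha).eq]
        group
      inv_mem' := by
        rintro _ ⟨a, ha, rfl⟩
        exact ⟨a⁻¹, inv_mem ha, by group⟩ }
  let U : Set G := {w | w ∈ T ∧ w ≠ 1 ∧ ¬ Even (Nat.card (Paths H T g w))}
  have hU0 : U ⊆ P0 := by
    rintro w ⟨hwT, -, hw⟩
    by_contra hwP
    have hz : Nat.card {a : T // inDC H g (a : G) ∧ (a : G) * a = w} = 0 :=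
      Nat.card_eq_zero.2 (Or.inl ⟨fun a => hwP ⟨a.1, a.1.2, a.2.2.symm⟩⟩)
    have hm := c.card_paths_modEq g hwT
    rw [hz] at hm
    exact hw (Nat.even_iff.2 hm)
  -- the set of points joined to the base point by such steps is invariant under `H`
  have hstep : ∀ w ∈ U, ∀ h ∈ H, ∃ w' ∈ U, ∃ h' ∈ H, h * w = w' * h' := by
    rintro w ⟨hwT, hw1, hw⟩ h hh
    have hy := c.ht.τ_spec (h * w)
    set s := c.ht.τ (h * w) with hs
    have e : s = h * w * ((s⁻¹ * (h * w))⁻¹) := by group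
    refine ⟨s, ⟨c.ht.τ_mem _, fun hs1 => hw1 ?_, ?_⟩, _, hy, by group⟩
    · rw [hs1, inv_one, one_mul] at hy
      have := mul_mem (inv_mem hh) hy
      rw [inv_mul_cancel_left] at this
      exact c.ht.disj hwT this
    · rwa [← c.card_paths_eq g hh (inv_mem hy) e]
  set C : Subgroup G := closure U with hC
  have hCP : C ≤ P0 := (closure_le P0).2 hU0
  have hinv : ∀ p ∈ C, ∀ h ∈ H, ∃ p' ∈ C, ∃ h' ∈ H, h * p = p' * h' := by
    intro p hp
    induction hp using Subgroup.closure_induction with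
    | mem w hw =>
      intro h hh
      obtain ⟨w', hw', h', hh', e⟩ := hstep w hw h hh
      exact ⟨w', subset_closure hw', h', hh', e⟩
    | one => exact fun h hh => ⟨1, one_mem _, h, hh, by rw [mul_one, one_mul]⟩
    | mul a b _ _ iha ihb =>
      intro h hh
      obtain ⟨a', ha', h1, hh1, e1⟩ := iha h hh
      obtain ⟨b', hb', h2, hh2, e2⟩ := ihb h1 hh1
      exact ⟨a' * b', mul_mem ha' hb', h2, hh2, by
        rw [← mul_assoc, e1, mul_assoc, e2, ← mul_assoc]⟩
    | inv a _ iha =>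
      intro h hh
      have hpow : ∀ n : ℕ, ∀ h ∈ H, ∃ p' ∈ C, ∃ h' ∈ H, h * a ^ n = p' * h' := by
        intro n
        induction n with
        | zero => exact fun h hh => ⟨1, one_mem _, h, hh, by rw [pow_zero, mul_one, one_mul]⟩
        | succ n ihn =>
          intro h hh
          obtain ⟨a', ha', h1, hh1, e1⟩ := ihn h hh
          obtain ⟨b', hb', h2, hh2, e2⟩ := iha h1 hh1
          exact ⟨a' * b', mul_mem ha' hb', h2, hh2, by
            rw [pow_succ, ← mul_assoc, e1, mul_assoc, e2, ← mul_assoc]⟩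
      have ei : a⁻¹ = a ^ (orderOf a - 1) := by
        refine inv_eq_of_mul_eq_one_left ?_
        rw [← pow_succ, Nat.sub_add_cancel (orderOf_pos a), pow_orderOf_eq_one]
      rw [ei]
      exact hpow _ h hh
  let K : Subgroup G :=
    { carrier := {x | ∃ p ∈ C, ∃ h ∈ H, x = p * h}
      one_mem' := ⟨1, one_mem _, 1, one_mem _, (mul_one 1).symm⟩
      mul_mem' := by
        rintro _ _ ⟨p, hp, h, hh, rfl⟩ ⟨q, hq, k, hk, rfl⟩
        obtain ⟨q', hq', h', hh', e⟩ := hinv q hq h hh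
        refine ⟨p * q', mul_mem hp hq', h' * k, mul_mem hh' hk, ?_⟩
        calc p * h * (q * k) = p * (h * q) * k := by group
          _ = p * (q' * h') * k := by rw [e]
          _ = p * q' * (h' * k) := by group
      inv_mem' := by
        rintro _ ⟨p, hp, h, hh, rfl⟩
        obtain ⟨q', hq', h', hh', e⟩ := hinv p⁻¹ (inv_mem hp) h⁻¹ (inv_mem hh)
        exact ⟨q', hq', h', hh', by rw [mul_inv_rev, e]⟩ }
  have hKtop : K ≠ ⊤ := by
    intro h
    -- then squaring is onto `T`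
    let sq : T → T := fun a => a * a
    have hsq : Function.Surjective sq := by
      intro t
      obtain ⟨p, hp, a, ha, e⟩ := (h ▸ mem_top (t : G) : (t : G) ∈ K)
      obtain ⟨b, hb, hpb⟩ := hCP hp
      have hpT : p ∈ T := hpb ▸ mul_mem hb hb
      have htp : (t : G) = p := (c.ht.disj_eq hpT t.2 (by rwa [e, inv_mul_cancel_left])).symm
      exact ⟨⟨b, hb⟩, Subtype.ext (show b * b = (t : G) by rw [htp, hpb])⟩
    have hinj := Finite.injective_iff_surjective.2 hsq
    obtain ⟨z, hz, oz⟩ := c.exists_invol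
    have h1 : (⟨z, hz⟩ : T) = 1 := hinj (show sq ⟨z, hz⟩ = sq 1 from
      Subtype.ext (show z * z = 1 * 1 by rw [CfsgLib.Invol.invol_mul_self oz, mul_one]))
    exact CfsgLib.Invol.invol_ne_one oz (congrArg Subtype.val h1)
  have hHK : H ≤ K := fun x hx => ⟨1, one_mem _, x, hx, (one_mul x).symm⟩
  have huK : u ∈ K :=
    ⟨u, subset_closure (show u ∈ U from ⟨hu, hu1, hodd⟩), 1, one_mem _, (mul_one u).symm⟩
  exact hu1 (c.ht.disj hu (c.maximal hHK hKtop huK))

theorem odd_suborbit (c : Conf G H T) (g : G) :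
    Odd (Nat.card {a : T // inDC H g (a : G)}) := by
  classical
  have hbij : Function.Bijective (fun a : {a : T // inDC H g (a : G)} =>
      (⟨((a.1 : G) : G ⧸ H), by
        obtain ⟨x, hx, y, hy, e⟩ := a.2
        refine ⟨⟨x, hx⟩, ?_⟩
        show x • ((g : G) : G ⧸ H) = ((a.1 : G) : G ⧸ H)
        rw [MulAction.Quotient.smul_coe, QuotientGroup.eq, smul_eq_mul, e]
        rwa [show (x * g)⁻¹ * (x * g * y) = y by group]⟩ :
        MulAction.orbit H ((g : G) : G ⧸ H))) := by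
    constructor
    · intro a b hab
      have := QuotientGroup.eq.1 (congrArg Subtype.val hab)
      exact Subtype.ext (Subtype.ext (c.ht.disj_eq a.1.2 b.1.2 this))
    · rintro ⟨_, x, rfl⟩
      have hy := c.ht.τ_spec ((x : G) * g)
      set s := c.ht.τ ((x : G) * g) with hs
      refine ⟨⟨⟨s, c.ht.τ_mem _⟩, x, x.2, (s⁻¹ * ((x : G) * g))⁻¹, inv_mem hy, ?_⟩, ?_⟩
      · show s = (x : G) * g * (s⁻¹ * ((x : G) * g))⁻¹
        group
      · refine Subtype.ext ?_
        show ((s : G) : G ⧸ H) = (x : G) • ((g : G) : G ⧸ H)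
        rw [MulAction.Quotient.smul_coe, QuotientGroup.eq, smul_eq_mul]
        exact hy
  rw [Nat.card_congr (Equiv.ofBijective _ hbij)]
  refine c.ht.odd.of_dvd_nat ?_
  rw [Nat.card_coe_set_eq, ← MulAction.index_stabilizer]
  exact Subgroup.index_dvd_card _

/-- Every suborbit contains a point of an involution of `T`. -/
theorem exists_invol_inDC (c : Conf G H T) {g : G} (hg : g ∉ H) :
    ∃ a ∈ T, orderOf a = 2 ∧ inDC H g a := by
  classical
  haveI := Fintype.ofFinite T
  set Y := {a : T // inDC H g (a : G)} with hY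
  have hsum : Nat.card Y = ∑ u : T, Nat.card {a : Y // a.1 * a.1 = u} := by
    rw [← Nat.card_sigma]
    exact Nat.card_congr (Equiv.sigmaFiberEquiv (fun a : Y => a.1 * a.1)).symm
  have hfib : ∀ u : T, u ≠ 1 → 2 ∣ Nat.card {a : Y // a.1 * a.1 = u} := by
    intro u hu
    have h1 := c.even_paths g u.2 (fun h => hu (Subtype.ext h))
    have h2 := c.card_paths_modEq g u.2
    have e : Nat.card {a : T // inDC H g (a : G) ∧ (a : G) * a = u} =
        Nat.card {a : Y // a.1 * a.1 = u} := by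
      refine Nat.card_congr ⟨fun a => ⟨⟨a.1, a.2.1⟩, Subtype.ext a.2.2⟩,
        fun a => ⟨a.1.1, a.1.2, congrArg Subtype.val a.2⟩, fun a => rfl, fun a => rfl⟩
    rw [e] at h2
    exact Nat.dvd_of_mod_eq_zero (h2 ▸ Nat.even_iff.1 h1)
  have hne : Nat.card {a : Y // a.1 * a.1 = 1} ≠ 0 := by
    intro h0
    refine Nat.not_even_iff_odd.2 (c.odd_suborbit g) (even_iff_two_dvd.2 ?_)
    rw [show Nat.card {a : T // inDC H g (a : G)} = Nat.card Y from rfl, hsum]
    refine Finset.dvd_sum fun u _ => ?_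
    by_cases hu : u = 1
    · rw [hu, h0]; exact dvd_zero 2
    · exact hfib u hu
  obtain ⟨⟨⟨a, ha⟩, hd⟩, hsq⟩ := (Nat.card_ne_zero.1 hne).1
  have hsq' : a * a = 1 := congrArg Subtype.val hsq
  refine ⟨a, ha, CfsgLib.Invol.invol_iff.2 ⟨hsq', fun h1 => hg ?_⟩, hd⟩
  subst h1
  obtain ⟨x, hx, y, hy, e⟩ := hd
  have : g = x⁻¹ * y⁻¹ := by
    rw [eq_inv_mul_iff_mul_eq, ← one_mul y⁻¹, eq_mul_inv_iff_mul_eq]
    exact e.symm
  rw [this]
  exact mul_mem (inv_mem hx) (inv_mem hy)

/-- `H` is transitive on the points other than the base point. -/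
theorem two_trans (c : Conf G H T) {z : G} (hz : z ∈ T) (oz : orderOf z = 2) {g : G}
    (hg : g ∉ H) : ∃ h ∈ H, z⁻¹ * (h⁻¹ * g) ∈ H := by
  obtain ⟨a, ha, oa, x, hx, y, hy, e⟩ := c.exists_invol_inDC hg
  obtain ⟨n, hn, -, hn2⟩ := c.invol_conj_T hz oz ha oa
  refine ⟨x⁻¹ * n, mul_mem (inv_mem hx) hn, ?_⟩
  have : z⁻¹ * ((x⁻¹ * n)⁻¹ * g) = n⁻¹ * y⁻¹ := by
    have e2 : x * g = n * z * n⁻¹ * y⁻¹ := by rw [hn2, e, mul_inv_cancel_right]
    calc z⁻¹ * ((x⁻¹ * n)⁻¹ * g) = z⁻¹ * n⁻¹ * (x * g) := by group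
      _ = n⁻¹ * y⁻¹ := by rw [e2]; group
  rw [this]
  exact mul_mem (inv_mem hn) (inv_mem hy)

end Conf

end CfsgLib.AGroupHT
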